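import Groth.Agent.Lefpen.H728.RegSeq
import Groth.Agent.CohqA.LaurentLoc

/-!
# Regular sequences of forms on graded pieces of Laurent polynomials
-/

set_option autoImplicit false

universe u v

namespace Groth.Agent.Lefpen.H728.LaurReg

open MvPolynomial Groth.Agent.CohqA.LaurentLoc Groth.Agent.CohqA.LaurentCech

section HomZ

variable {k : Type u} [CommRing k] {ι : Type v}

/-- Homogeneous of integral degree `z`. -/
def HomZ (P : MvPolynomial ι k) (z : ℤ) : Prop := ∀ c, P.coeff c ≠ 0 → (c.degree : ℤ) = z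

theorem homZ_iff {P : MvPolynomial ι k} {n : ℕ} : HomZ P n ↔ P.IsHomogeneous n := by
  constructor
  · intro h c hc
    rw [show (Finsupp.weight 1 : (ι →₀ ℕ) →+ ℕ) = Finsupp.degree from
      (Finsupp.degree_eq_weight_one).symm]
    exact_mod_cast h c hc
  · intro h c hc
    have := h hc
    rw [show (Finsupp.weight 1 : (ι →₀ ℕ) →+ ℕ) = Finsupp.degree from
      (Finsupp.degree_eq_weight_one).symm] at this
    exact_mod_cast this

theorem HomZ.eq_zero {P : MvPolynomial ι k} {z : ℤ} (h : HomZ P z) (hz : z < 0) : P = 0 := by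
  ext c
  rw [coeff_zero]
  by_contra hne
  have := h c hne
  omega

/-- The component of integral degree `z`. -/
noncomputable def compZ (z : ℤ) : MvPolynomial ι k →ₗ[k] MvPolynomial ι k :=
  if 0 ≤ z then homogeneousComponent z.toNat else 0

theorem homZ_compZ (z : ℤ) (P : MvPolynomial ι k) : HomZ (compZ z P) z := by
  unfold compZ
  split_ifs with h
  · obtain ⟨n, rfl⟩ := Int.eq_ofNat_of_zero_le h
    rw [Int.toNat_natCast, homZ_iff]
    exact homogeneousComponent_isHomogeneous n P
  · intro c hc
    simp at hc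

theorem compZ_eq_self {z : ℤ} {P : MvPolynomial ι k} (h : HomZ P z) : compZ z P = P := by
  unfold compZ
  split_ifs with hz
  · obtain ⟨n, rfl⟩ := Int.eq_ofNat_of_zero_le hz
    rw [Int.toNat_natCast]
    exact homogeneousComponent_eq_self (homZ_iff.mp h)
  · rw [h.eq_zero (not_le.mp hz), map_zero]

end HomZ

section Field

variable {k : Type u} [Field k] {ι : Type v}

theorem compZ_mul {F f : MvPolynomial ι k} {a : ℕ} (hF : F.IsHomogeneous a) (z : ℤ) :
    compZ z (F * f) = F * compZ (z - a) f := by
  unfold compZ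
  by_cases hz : 0 ≤ z - a
  · obtain ⟨n, hn⟩ := Int.eq_ofNat_of_zero_le hz
    have h0 : 0 ≤ z := by omega
    rw [if_pos h0, if_pos hz]
    have h1 : z.toNat = a + (z - a).toNat := by omega
    rw [h1, RegSeq.homogeneousComponent_mul_of_isHomogeneous hF]
  · rw [if_neg hz, LinearMap.zero_apply, mul_zero]
    split_ifs with h0
    · -- the degree is smaller than `a`
      classical
      rw [← sum_homogeneousComponent f, Finset.mul_sum, map_sum]
      refine Finset.sum_eq_zero fun i _ => ?_
      rw [homogeneousComponent_of_mem ((mem_homogeneousSubmodule _ _).mpr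
        (hF.mul (homogeneousComponent_isHomogeneous i f))), if_neg (by omega)]
    · rfl

/-- Homogeneous coefficients for a homogeneous element of a homogeneous ideal. -/
theorem exists_homZ_coeff {d : ℕ} (G : Fin d → MvPolynomial ι k) (a : Fin d → ℕ)
    (hG : ∀ j, (G j).IsHomogeneous (a j)) (c : Fin d) {z : ℤ} {P : MvPolynomial ι k}
    (hP : HomZ P z) (hmem : P ∈ Ideal.span (G '' {j | j < c})) :
    ∃ H : Fin d → MvPolynomial ι k, (∀ j, HomZ (H j) (z - a j)) ∧
      P = ∑ j ∈ Finset.univ.filter (· < c), G j * H j := by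
  classical
  have h1 : G '' {j | j < c} = ((Finset.univ.filter (· < c)).image G : Finset _) := by
    ext x; simp
  rw [h1] at hmem
  have h2 : ∃ H' : Fin d → MvPolynomial ι k, P = ∑ j ∈ Finset.univ.filter (· < c), G j * H' j := by
    have h3 : Ideal.span (((Finset.univ.filter (· < c)).image G : Finset _) :
        Set (MvPolynomial ι k)) = Submodule.span _ (G '' ((Finset.univ.filter (· < c) :
          Finset (Fin d)) : Set (Fin d))) := by
      rw [Finset.coe_image]
    rw [h3, Submodule.mem_span_image_finset_iff_exists_fun] at hmem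
    obtain ⟨H', hH'⟩ := hmem
    refine ⟨fun j => if h : j ∈ Finset.univ.filter (· < c) then H' ⟨j, h⟩ else 0, ?_⟩
    rw [← hH', ← Finset.sum_attach (Finset.univ.filter (· < c)), Finset.univ_eq_attach]
    refine Finset.sum_congr rfl fun j _ => ?_
    change H' j • G ↑j = G ↑j * (if h : ↑j ∈ Finset.univ.filter (· < c) then H' ⟨↑j, h⟩ else 0)
    rw [dif_pos j.2, smul_eq_mul, mul_comm]
  obtain ⟨H', hH'⟩ := h2
  refine ⟨fun j => compZ (z - a j) (H' j), fun j => homZ_compZ _ _, ?_⟩
  rw [← compZ_eq_self hP, hH', map_sum]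
  exact Finset.sum_congr rfl fun j _ => compZ_mul (hG j) z

end Field

section Clear

variable {k : Type u} [CommRing k] {ι : Type v} [Fintype ι]

open Classical in
/-- The exponent `e` on `I`, zero elsewhere. -/
noncomputable def indE (I : Set ι) (e : ℕ) : ι → ℤ := fun i => if i ∈ I then (e : ℤ) else 0

open Classical in
/-- the total degree of `indE I e`. -/
theorem sum_indE (I : Set ι) (e : ℕ) : ∑ i, indE I e i = e * (Finset.univ.filter (· ∈ I)).card := by
  simp only [indE]
  rw [Finset.sum_ite, Finset.sum_const_zero, add_zero, Finset.sum_const, nsmul_eq_mul, mul_comm]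

/-- Multiplying by a large power of the variables in `I` gives a polynomial. -/
theorem exists_clear (I : Set ι) (m : ℤ) (x : LR ι k) (hx : x.coeff ∈ Lsub k m I) :
    ∃ e₀ : ℕ, ∀ e, e₀ ≤ e → ∃ P : MvPolynomial ι k, HomZ P (m + ∑ i, indE I e i) ∧
      toLaurent P = x * AddMonoidAlgebra.single (indE I e) 1 := by
  classical
  refine ⟨∑ m ∈ x.coeff.support, ∑ i, (m i).natAbs, fun e he => ?_⟩
  set G : LR ι k := x * AddMonoidAlgebra.single (indE I e) 1 with hG
  have hGc : ∀ m, G.coeff m = x.coeff (m - indE I e) := fun m => coeff_mul_single_one _ _ _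
  have hGs : (G.coeff.support : Set (ι → ℤ)) ⊆ Set.range castExp := by
    intro m' hm
    have hm' : x.coeff (m' - indE I e) ≠ 0 := by
      rw [← hGc]
      simpa using hm
    have h1 : ∀ i, 0 ≤ m' i := by
      intro i
      by_cases hi : i ∈ I
      · have h2 : ((m' - indE I e) i).natAbs ≤ ∑ i, ((m' - indE I e) i).natAbs :=
          Finset.single_le_sum (f := fun i => ((m' - indE I e) i).natAbs)
            (fun _ _ => Nat.zero_le _) (Finset.mem_univ i)
        have h3 : ∑ i, ((m' - indE I e) i).natAbs ≤ ∑ m ∈ x.coeff.support, ∑ i, (m i).natAbs :=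
          Finset.single_le_sum (f := fun m : ι → ℤ => ∑ i, (m i).natAbs)
            (fun _ _ => Nat.zero_le _) (Finsupp.mem_support_iff.mpr hm')
        have h5 : (m' - indE I e) i = m' i - e := by simp [indE, hi]
        rw [h5] at h2
        omega
      · have h2 := (hx _ hm').2 i hi
        have h5 : (m' - indE I e) i = m' i := by simp [indE, hi]
        rwa [h5] at h2
    refine ⟨Finsupp.equivFunOnFinite.symm fun i => (m' i).toNat, ?_⟩
    funext i
    simp only [castExp_apply, Finsupp.equivFunOnFinite_symm_apply_apply]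
    exact Int.toNat_of_nonneg (h1 i)
  refine ⟨AddMonoidAlgebra.comapDomain castExp castExp_injective G, ?_, ?_⟩
  · intro c' hc'
    have h1 : MvPolynomial.coeff c' (AddMonoidAlgebra.comapDomain castExp castExp_injective G :
        MvPolynomial ι k) = x.coeff (castExp c' - indE I e) := by
      rw [← hGc]
      rfl
    rw [h1] at hc'
    have h2 := (hx _ hc').1
    simp only [Pi.sub_apply] at h2
    rw [Finset.sum_sub_distrib, sum_castExp] at h2
    omega
  · exact AddMonoidAlgebra.mapDomain_comapDomain hGs castExp_injective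

/-- Dividing a homogeneous polynomial by a power of the variables in `I`. -/
theorem mem_Lsub_of_homZ (I : Set ι) (e : ℕ) {P : MvPolynomial ι k} {z : ℤ} (hP : HomZ P z) :
    (toLaurent P * AddMonoidAlgebra.single (-indE I e) 1 : LR ι k).coeff ∈
      Lsub k (z - ∑ i, indE I e i) I := by
  classical
  intro m hm
  rw [coeff_mul_single_one, sub_neg_eq_add] at hm
  have h1 : ∀ i, 0 ≤ (m + indE I e) i := by
    intro i
    by_contra hneg
    exact hm (coeff_toLaurent_eq_zero P _ i (not_le.mp hneg))
  obtain ⟨c', hc'⟩ : ∃ c' : ι →₀ ℕ, castExp c' = m + indE I e := by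
    refine ⟨Finsupp.equivFunOnFinite.symm fun i => ((m + indE I e) i).toNat, ?_⟩
    funext i
    simp only [castExp_apply, Finsupp.equivFunOnFinite_symm_apply_apply]
    exact Int.toNat_of_nonneg (h1 i)
  rw [← hc', coeff_toLaurent] at hm
  have h2 := hP c' hm
  rw [← sum_castExp c', hc'] at h2
  simp only [Pi.add_apply] at h2
  rw [Finset.sum_add_distrib] at h2
  refine ⟨by omega, fun i hi => ?_⟩
  have h5 := h1 i
  simpa [indE, hi] using h5

end Clear

section Main

variable {k : Type u} [Field k] {ι : Type v} [Fintype ι]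

/-- Multiplication by the image of a homogeneous polynomial. -/
theorem mul_mem_Lsub {F : MvPolynomial ι k} {a : ℕ} (hF : F.IsHomogeneous a) {m : ℤ} {I : Set ι}
    {x : LR ι k} (hx : x.coeff ∈ Lsub k m I) {m' : ℤ} (hm : m' = m + a) :
    (toLaurent F * x).coeff ∈ Lsub k m' I := by
  subst hm
  obtain ⟨e, he⟩ := exists_clear I m x hx
  obtain ⟨P, hP, hPx⟩ := he e le_rfl
  have h1 : toLaurent F * x = toLaurent (F * P) * AddMonoidAlgebra.single (-indE I e) 1 := by
    rw [map_mul, hPx, mul_assoc, mul_assoc, single_mul_single_neg, mul_one]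
  rw [h1]
  have h2 : HomZ (F * P) (a + (m + ∑ i, indE I e i)) := by
    rw [← compZ_eq_self hP]
    have := compZ_mul (f := P) hF (a + (m + ∑ i, indE I e i))
    rw [add_sub_cancel_left] at this
    rw [← this]
    exact homZ_compZ _ _
  have h3 := mem_Lsub_of_homZ I e h2
  have h4 : (a : ℤ) + (m + ∑ i, indE I e i) - ∑ i, indE I e i = m + a := by ring
  rwa [h4] at h3

/-- The graded, localized form of the regularity of a sequence of forms. -/
theorem exists_coeff_of_mul {d : ℕ} (G : Fin d → MvPolynomial ι k) (a : Fin d → ℕ)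
    (ha : ∀ j, 1 ≤ a j) (hG : ∀ j, (G j).IsHomogeneous (a j))
    (hht : (d : ℕ∞) ≤ (Ideal.span (Set.range G)).height) (c : Fin d) {m : ℤ} {I : Set ι}
    (f : LR ι k) (hf : f.coeff ∈ Lsub k m I) (h : Fin d → LR ι k)
    (hh : ∀ j, (h j).coeff ∈ Lsub k (m + a c - a j) I)
    (heq : toLaurent (G c) * f = ∑ j ∈ Finset.univ.filter (· < c), toLaurent (G j) * h j) :
    ∃ h' : Fin d → LR ι k, (∀ j, (h' j).coeff ∈ Lsub k (m - a j) I) ∧
      f = ∑ j ∈ Finset.univ.filter (· < c), toLaurent (G j) * h' j := by
  classical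
  obtain ⟨e₀, he₀⟩ := exists_clear I m f hf
  choose e₁ he₁ using fun j => exists_clear I (m + a c - a j) (h j) (hh j)
  set e := e₀ + ∑ j, e₁ j with he
  obtain ⟨F, hF, hFf⟩ := he₀ e (by omega)
  have hle : ∀ j, e₁ j ≤ e := fun j => by
    have := Finset.single_le_sum (f := e₁) (fun _ _ => Nat.zero_le _) (Finset.mem_univ j)
    omega
  choose H hH hHh using fun j => he₁ j e (hle j)
  have h1 : G c * F = ∑ j ∈ Finset.univ.filter (· < c), G j * H j := by
    apply toLaurent_injective
    rw [map_mul, map_sum, hFf, ← mul_assoc, heq, Finset.sum_mul]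
    exact Finset.sum_congr rfl fun j _ => by rw [map_mul, hHh, mul_assoc]
  have h2 : G c * F ∈ Ideal.span (G '' {j | j < c}) := by
    rw [h1]
    refine Ideal.sum_mem _ fun j hj => Ideal.mul_mem_right _ _ (Ideal.subset_span ⟨j, ?_, rfl⟩)
    exact (Finset.mem_filter.mp hj).2
  have h3 := RegSeq.mem_of_mul_mem G a ha hG hht c F h2
  obtain ⟨H', hH', hFH'⟩ := exists_homZ_coeff G a hG c hF h3
  refine ⟨fun j => toLaurent (H' j) * AddMonoidAlgebra.single (-indE I e) 1, fun j => ?_, ?_⟩
  · have h4 := mem_Lsub_of_homZ I e (hH' j)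
    have h5 : m + ∑ i, indE I e i - a j - ∑ i, indE I e i = m - a j := by ring
    rwa [h5] at h4
  · have h4 : f = toLaurent F * AddMonoidAlgebra.single (-indE I e) 1 := by
      rw [hFf, mul_assoc, single_mul_single_neg, mul_one]
    rw [h4, hFH', map_sum, Finset.sum_mul]
    exact Finset.sum_congr rfl fun j _ => by rw [map_mul, mul_assoc]

end Main

end Groth.Agent.Lefpen.H728.LaurReg
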