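import Groth.Agent.Lefpen.H728.DigitRot
import Mathlib.RingTheory.WittVector.Complete
import Mathlib.RingTheory.WittVector.Teichmuller
import Mathlib.RingTheory.WittVector.Domain
import Mathlib.RingTheory.WittVector.DiscreteValuationRing
import Mathlib.RingTheory.IntegralDomain
import Mathlib.NumberTheory.Basic
import Mathlib.FieldTheory.Finite.Basic
import Mathlib.RingTheory.MvPolynomial.Homogeneous

/-!
# Ax's theorem on the number of zeros of a polynomial over a finite field

We follow D. Wan's elementary approach: count zeros modulo powers of `p` through the sum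
`∑ F(x) ^ ((q - 1) p ^ k)` over Teichmüller points, expand with multinomial coefficients,
and estimate with Legendre's formula.
-/

set_option autoImplicit false

namespace Groth.Agent.Lefpen.H728.AxRing

open Finset

/-- Power sums over Teichmüller points. -/
theorem sum_pow_eq {k R : Type*} [Field k] [Fintype k] [CommRing R] [IsDomain R]
    (T : k →* R) (hT : Function.Injective T) (h0 : T 0 = 0) (e : ℕ) :
    (Fintype.card k - 1 ∣ e ∧ e ≠ 0 ∨ e = 0 ∧ ∑ x : k, T x ^ e = Fintype.card k) ∨
      ∑ x : k, T x ^ e = 0 := by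
  classical
  rcases Nat.eq_zero_or_pos e with rfl | he
  · left; right
    simp
  by_cases hd : Fintype.card k - 1 ∣ e
  · left; left; exact ⟨hd, he.ne'⟩
  · right
    have h1 : ∑ x : k, T x ^ e = ∑ u : kˣ, T (u : k) ^ e := by
      have : ∑ x : k, T x ^ e = ∑ x ∈ (Finset.univ.erase (0 : k)), T x ^ e := by
        rw [← Finset.add_sum_erase Finset.univ _ (Finset.mem_univ (0 : k)), h0,
          zero_pow he.ne', zero_add]
      rw [this]
      refine (Finset.sum_bij (fun (u : kˣ) _ => (u : k)) ?_ ?_ ?_ ?_).symm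
      · intro u _; simp
      · intro u _ v _ h; exact Units.ext h
      · intro x hx
        have hx0 : x ≠ 0 := (Finset.mem_erase.mp hx).1
        exact ⟨Units.mk0 x hx0, Finset.mem_univ _, rfl⟩
      · intro u _; rfl
    rw [h1]
    let φ : kˣ →* R := (powMonoidHom e : R →* R).comp (T.comp (Units.coeHom k))
    have h2 : ∑ u : kˣ, T (u : k) ^ e = ∑ u : kˣ, φ u := rfl
    rw [h2]
    apply sum_hom_units_eq_zero
    intro hφ
    apply hd
    obtain ⟨g, hg⟩ := IsCyclic.exists_generator (α := kˣ)
    have h3 : φ g = 1 := by rw [hφ]; rfl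
    have h4 : T ((g : k) ^ e) = T 1 := by
      rw [map_pow, map_one]; exact h3
    have h5 : (g : k) ^ e = 1 := hT h4
    have h6 : g ^ e = 1 := by
      ext; simpa using h5
    have h7 : orderOf g = Nat.card kˣ := orderOf_eq_card_of_forall_mem_zpowers hg
    rw [Nat.card_eq_fintype_card, Fintype.card_units] at h7
    rw [← h7]
    exact orderOf_dvd_of_pow_eq_one h6

/-- The sum of `F̃ ^ n` over all Teichmüller points, expanded. -/
theorem sum_eval_pow {k R κ ι : Type*} [Fintype k] [CommRing R] [Fintype κ] [DecidableEq κ]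
    [DecidableEq ι]
    (t : k → R) (S : Finset ι) (a : ι → R) (w : ι → κ → ℕ) (n : ℕ) :
    ∑ x : κ → k, (∑ s ∈ S, a s * ∏ i, t (x i) ^ w s i) ^ n =
      ∑ M ∈ Finset.piAntidiag S n, (Nat.multinomial S M : R) * (∏ s ∈ S, a s ^ M s) *
        ∏ i, ∑ y : k, t y ^ (∑ s ∈ S, M s * w s i) := by
  have h1 : ∀ x : κ → k, (∑ s ∈ S, a s * ∏ i, t (x i) ^ w s i) ^ n =
      ∑ M ∈ Finset.piAntidiag S n, (Nat.multinomial S M : R) * (∏ s ∈ S, a s ^ M s) *
        ∏ i, t (x i) ^ (∑ s ∈ S, M s * w s i) := by
    intro x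
    rw [Finset.sum_pow_eq_sum_piAntidiag]
    refine Finset.sum_congr rfl fun M _ => ?_
    rw [mul_assoc]
    congr 1
    simp_rw [mul_pow]
    rw [Finset.prod_mul_distrib]
    congr 1
    simp_rw [← Finset.prod_pow, ← pow_mul]
    rw [Finset.prod_comm]
    refine Finset.prod_congr rfl fun i _ => ?_
    rw [Finset.prod_pow_eq_pow_sum]
    congr 1
    exact Finset.sum_congr rfl fun s _ => mul_comm _ _
  simp_rw [h1]
  rw [Finset.sum_comm]
  refine Finset.sum_congr rfl fun M _ => ?_
  rw [← Finset.mul_sum]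
  congr 1
  rw [Finset.prod_univ_sum]
  simp

/-- The key divisibility. -/
theorem dvd_sum_eval_pow {k R κ ι : Type*} [Field k] [Fintype k] [CommRing R] [IsDomain R]
    [Fintype κ] [DecidableEq κ] [DecidableEq ι]
    (p f : ℕ) [hpp : Fact p.Prime] (hf : 0 < f) (hq : Fintype.card k = p ^ f)
    (T : k →* R) (hT : Function.Injective T) (h0 : T 0 = 0)
    (S : Finset ι) (a : ι → R) (w : ι → κ → ℕ) (d : ℕ) (hd : 0 < d)
    (hw : ∀ s ∈ S, ∑ i, w s i ≤ d) (j : ℕ) (hj : j * d < Fintype.card κ) (m : ℕ) :
    (p : R) ^ (f * j) ∣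
      ∑ x : κ → k, (∑ s ∈ S, a s * ∏ i, T (x i) ^ w s i) ^ ((p ^ f - 1) * p ^ m) := by
  rw [sum_eval_pow (fun x => T x) S a w]
  refine Finset.dvd_sum fun M hM => ?_
  rw [Finset.mem_piAntidiag] at hM
  by_cases he : ∀ i, (p ^ f - 1) ∣ ∑ s ∈ S, M s * w s i
  · have h1 := DigitRot.multinomial_valuation p f d m hf S M w hw hM.1 he j hd hj
    have h2 : (p : R) ^ (f * j) ∣ (Nat.multinomial S M : R) *
        (p : R) ^ (f * (Finset.univ.filter fun i : κ => ∑ s ∈ S, M s * w s i = 0).card) := by
      have := Nat.cast_dvd_cast (α := R) h1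
      push_cast at this
      exact this
    have h3 : (p : R) ^ (f * (Finset.univ.filter fun i : κ => ∑ s ∈ S, M s * w s i = 0).card) ∣
        ∏ i, ∑ y : k, T y ^ (∑ s ∈ S, M s * w s i) := by
      rw [← Finset.prod_filter_mul_prod_filter_not Finset.univ
        (fun i : κ => ∑ s ∈ S, M s * w s i = 0)]
      refine Dvd.dvd.mul_right ?_ _
      rw [pow_mul, Finset.prod_congr rfl (g := fun _ => (p : R) ^ f)]
      · rw [Finset.prod_const]
      · intro i hi
        rw [(Finset.mem_filter.mp hi).2]
        simp [hq]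
    obtain ⟨y, hy⟩ := h3
    rw [hy, mul_right_comm, ← mul_assoc]
    exact Dvd.dvd.mul_right (Dvd.dvd.mul_right h2 _) _
  · push Not at he
    obtain ⟨i, hi⟩ := he
    have : ∏ i, ∑ y : k, T y ^ (∑ s ∈ S, M s * w s i) = 0 := by
      refine Finset.prod_eq_zero (Finset.mem_univ i) ?_
      rcases sum_pow_eq T hT h0 (∑ s ∈ S, M s * w s i) with (h | h) | h
      · rw [hq] at h; exact absurd h.1 hi
      · rw [h.1] at hi
        exact absurd (dvd_zero _) hi
      · exact h
    rw [this, mul_zero]
    exact dvd_zero _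

/-- In characteristic zero domains with a residue field of characteristic `p`, the `p`-adic
divisibility of an integer may be tested in the ring. -/
theorem int_dvd_of_dvd {k R : Type*} [Field k] [CommRing R] [IsDomain R] (p : ℕ)
    [hpp : Fact p.Prime] [CharP k p] (hpR : (p : R) ≠ 0) (π : R →+* k) (n : ℤ) (m : ℕ)
    (h : (p : R) ^ m ∣ (n : R)) : (p : ℤ) ^ m ∣ n := by
  by_contra hcon
  have hn : n ≠ 0 := by rintro rfl; exact hcon (dvd_zero _)
  have hfin : FiniteMultiplicity (p : ℤ) n := by
    rw [Int.finiteMultiplicity_iff]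
    exact ⟨by simpa using hpp.out.one_lt.ne', hn⟩
  obtain ⟨u, hu, hpu⟩ := hfin.exists_eq_pow_mul_and_not_dvd
  set v := multiplicity (p : ℤ) n
  have hlt : v < m := by
    by_contra hle
    push Not at hle
    apply hcon
    rw [hu]
    exact Dvd.dvd.mul_right (pow_dvd_pow _ hle) _
  obtain ⟨y, hy⟩ := h
  rw [hu] at hy
  push_cast at hy
  have h1 : (u : R) = (p : R) ^ (m - v) * y := by
    have h2 : (p : R) ^ v * (u : R) = (p : R) ^ v * ((p : R) ^ (m - v) * y) := by
      rw [hy, ← mul_assoc, ← pow_add, Nat.add_sub_cancel' hlt.le]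
    exact mul_left_cancel₀ (pow_ne_zero _ hpR) h2
  have h3 := congrArg π h1
  rw [map_mul, map_pow, map_natCast, map_intCast, CharP.cast_eq_zero k p,
    zero_pow (by omega), zero_mul] at h3
  exact hpu ((CharP.intCast_eq_zero_iff k p u).mp h3)

theorem sum_ite_zero_one {R X : Type*} [CommRing R] [Fintype X] (P : X → Prop) [DecidablePred P] :
    ∑ x : X, (if P x then (0 : R) else 1) =
      ((((Fintype.card X : ℕ) : ℤ) - (Fintype.card {x : X // P x} : ℤ) : ℤ) : R) := by
  have h3 : ∀ x : X, (if P x then (0 : R) else 1) = 1 - (if P x then (1 : R) else 0) := by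
    intro x; split_ifs <;> simp
  simp_rw [h3]
  rw [Finset.sum_sub_distrib, Finset.sum_const, Finset.card_univ, Finset.sum_boole,
    Fintype.card_subtype]
  push_cast
  simp

/-- **Ax's theorem**: if `j d < N` for a polynomial of degree at most `d` in `N` variables over a
field with `q` elements, then `q ^ j` divides the number of its zeros. -/
theorem ax {k : Type*} [Field k] [Fintype k] [DecidableEq k] {κ : Type*} [Fintype κ]
    [DecidableEq κ] (F : MvPolynomial κ k) (d : ℕ) (hd : 0 < d) (hF : F.totalDegree ≤ d) (j : ℕ)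
    (hj : j * d < Fintype.card κ) :
    Fintype.card k ^ j ∣ Fintype.card {x : κ → k // MvPolynomial.eval x F = 0} := by
  classical
  obtain ⟨p, hchar⟩ := CharP.exists k
  obtain ⟨⟨f, hf⟩, hp, hq⟩ := FiniteField.card k p
  have : Fact p.Prime := ⟨hp⟩
  simp only [PNat.mk_coe] at hq
  have : PerfectRing k p := inferInstance
  let R := WittVector p k
  have : IsDomain R := inferInstance
  have hpR : (p : R) ≠ 0 := WittVector.p_nonzero p k
  let π : R →+* k := WittVector.constantCoeff
  let T : k →* R := WittVector.teichmuller p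
  have hπT : ∀ x, π (T x) = x := fun x => WittVector.teichmuller_coeff_zero p x
  have hT : Function.Injective T := fun x y h => by rw [← hπT x, h, hπT]
  have h0 : T 0 = 0 := WittVector.teichmuller_zero p
  have hker : ∀ r : R, π r = 0 → (p : R) ∣ r := by
    intro r hr
    have : r ∈ RingHom.ker π := hr
    rw [WittVector.ker_constantCoeff, Ideal.mem_span_singleton] at this
    exact this
  set m := f * j with hm
  set n := (p ^ f - 1) * p ^ m with hn
  have hq1 : 0 < p ^ f - 1 := by
    have := Nat.one_lt_pow hf.ne' hp.one_lt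
    omega
  set Ft : (κ → k) → R := fun x =>
    ∑ s ∈ F.support, T (F.coeff s) * ∏ i, T (x i) ^ s i with hFt
  have hπF : ∀ x, π (Ft x) = MvPolynomial.eval x F := by
    intro x
    rw [hFt]
    simp only [map_sum, map_mul, map_prod, map_pow, hπT]
    rw [MvPolynomial.eval_eq']
  have hsum : (p : R) ^ m ∣ ∑ x, Ft x ^ n := by
    refine dvd_sum_eval_pow p f hf hq T hT h0 F.support (fun s => T (F.coeff s))
      (fun s i => s i) d hd ?_ j hj m
    intro s hs
    have h1 : s.sum (fun _ e => e) ≤ F.totalDegree := MvPolynomial.le_totalDegree hs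
    rw [Finsupp.sum_fintype _ _ (fun _ => rfl)] at h1
    exact h1.trans hF
  have hle : m ≤ n := by
    have h1 : m < p ^ m := Nat.lt_pow_self hp.one_lt
    have h2 : p ^ m ≤ n := Nat.le_mul_of_pos_left _ hq1
    omega
  -- each term
  have hterm : ∀ x, (p : R) ^ m ∣ Ft x ^ n - (if MvPolynomial.eval x F = 0 then 0 else 1) := by
    intro x
    split_ifs with hx
    · rw [sub_zero]
      have h1 : (p : R) ∣ Ft x := hker _ (by rw [hπF, hx])
      exact (pow_dvd_pow _ hle).trans (pow_dvd_pow_of_dvd h1 n)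
    · have h1 : (p : R) ∣ Ft x ^ (p ^ f - 1) - 1 := by
        apply hker
        rw [map_sub, map_pow, hπF, map_one, ← hq, FiniteField.pow_card_sub_one_eq_one _ hx,
          sub_self]
      have h2 := dvd_sub_pow_of_dvd_sub h1 m
      rw [one_pow, ← pow_mul] at h2
      exact (pow_dvd_pow _ (Nat.le_succ m)).trans h2
  have htot : (p : R) ^ m ∣ ∑ x, (Ft x ^ n - (if MvPolynomial.eval x F = 0 then 0 else 1)) :=
    Finset.dvd_sum fun x _ => hterm x
  rw [Finset.sum_sub_distrib] at htot
  have h1 : (p : R) ^ m ∣ ∑ x : κ → k, (if MvPolynomial.eval x F = 0 then (0 : R) else 1) := by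
    have := dvd_sub hsum htot
    rwa [sub_sub_cancel] at this
  have h2 : ∑ x : κ → k, (if MvPolynomial.eval x F = 0 then (0 : R) else 1) =
      ((((Fintype.card k ^ Fintype.card κ : ℕ) : ℤ) -
        (Fintype.card {x : κ → k // MvPolynomial.eval x F = 0} : ℤ) : ℤ) : R) := by
    rw [sum_ite_zero_one, Fintype.card_fun]
  rw [h2] at h1
  have h3 := int_dvd_of_dvd p hpR π _ m h1
  have hjle : j ≤ Fintype.card κ := by
    have : j ≤ j * d := Nat.le_mul_of_pos_right _ hd
    omega
  have h4 : (p : ℤ) ^ m ∣ ((Fintype.card k ^ Fintype.card κ : ℕ) : ℤ) := by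
    rw [hq, ← pow_mul]
    have : p ^ m ∣ p ^ (f * Fintype.card κ) := pow_dvd_pow _ (Nat.mul_le_mul_left _ hjle)
    exact_mod_cast this
  have h5 := dvd_sub h4 h3
  rw [sub_sub_cancel] at h5
  rw [hq, ← pow_mul]
  exact_mod_cast h5

end Groth.Agent.Lefpen.H728.AxRing
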