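import Groth.Agent.Lefpen.H722.Sys
import Mathlib.Algebra.Homology.HomologySequenceLemmas

/-!
# Classes of cocycles of Čech systems, naturality of the connecting maps
-/

set_option autoImplicit false
universe u

namespace Groth.Agent.Lefpen.H728.Cls

open Groth.Agent.Lefpen.H722.Sys CategoryTheory CategoryTheory.Limits

variable {k : Type u} [CommRing k] {ι : Type} (V : Sys k ι)

theorem range_iCycles (p : ℕ) :
    LinearMap.range ((cx V).iCycles p).hom = LinearMap.ker (d V p) := by
  have hex : (ShortComplex.mk ((cx V).iCycles p) ((cx V).d p (p + 1))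
      ((cx V).iCycles_d p (p + 1))).Exact :=
    ShortComplex.exact_of_f_is_kernel _ ((cx V).cyclesIsKernel p (p + 1) (by simp))
  have h1 : LinearMap.range ((cx V).iCycles p).hom = LinearMap.ker ((cx V).d p (p + 1)).hom :=
    hex.moduleCat_range_eq_ker
  rw [h1, cx_d]
  rfl

theorem iCycles_injective (p : ℕ) : Function.Injective ((cx V).iCycles p).hom :=
  (ModuleCat.mono_iff_injective _).1 inferInstance

/-- Cocycles. -/
noncomputable def cyc (p : ℕ) : LinearMap.ker (d V p) ≃ₗ[k] (cx V).cycles p :=
  (LinearEquiv.ofEq _ _ (range_iCycles V p).symm).trans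
    (LinearEquiv.ofInjective _ (iCycles_injective V p)).symm

theorem iCycles_cyc (p : ℕ) (s : LinearMap.ker (d V p)) :
    ((cx V).iCycles p).hom (cyc V p s) = s.1 := by
  have := (LinearEquiv.ofInjective _ (iCycles_injective V p)).apply_symm_apply
    (LinearEquiv.ofEq _ _ (range_iCycles V p).symm s)
  exact congrArg Subtype.val this

/-- The class of a cocycle. -/
noncomputable def cls (p : ℕ) : LinearMap.ker (d V p) →ₗ[k] H V p :=
  ((cx V).homologyπ p).hom ∘ₗ (cyc V p).toLinearMap

theorem cls_surjective (p : ℕ) : Function.Surjective (cls V p) :=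
  ((ModuleCat.epi_iff_surjective _).1 (inferInstance : Epi ((cx V).homologyπ p))).comp
    (cyc V p).surjective

theorem cls_zero_injective : Function.Injective (cls V 0) :=
  (CochainComplex.isoHomologyπ₀ (cx V)).toLinearEquiv.injective.comp (cyc V 0).injective

theorem cls_eq_zero_iff (p : ℕ) (s : LinearMap.ker (d V (p + 1))) :
    cls V (p + 1) s = 0 ↔ ∃ t : C V p, d V p t = s.1 := by
  have hex : (ShortComplex.mk ((cx V).toCycles p (p + 1)) ((cx V).homologyπ (p + 1))
      ((cx V).toCycles_comp_homologyπ p (p + 1))).Exact :=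
    ShortComplex.exact_of_g_is_cokernel _ ((cx V).homologyIsCokernel p (p + 1) (by simp))
  rw [ShortComplex.moduleCat_exact_iff] at hex
  have hi : ∀ t : C V p, ((cx V).iCycles (p + 1)).hom (((cx V).toCycles p (p + 1)).hom t) =
      d V p t := by
    intro t
    have h1 : ((cx V).toCycles p (p + 1) ≫ (cx V).iCycles (p + 1)).hom t = d V p t := by
      rw [HomologicalComplex.toCycles_i, cx_d]
      rfl
    exact h1
  constructor
  · intro h
    obtain ⟨t, ht⟩ := hex (cyc V (p + 1) s) h
    refine ⟨t, ?_⟩
    rw [← hi, ← iCycles_cyc V (p + 1) s]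
    exact congrArg _ ht
  · rintro ⟨t, ht⟩
    have h1 : cyc V (p + 1) s = ((cx V).toCycles p (p + 1)).hom t := by
      apply iCycles_injective V (p + 1)
      rw [iCycles_cyc, hi, ht]
    change ((cx V).homologyπ (p + 1)).hom (cyc V (p + 1) s) = 0
    rw [h1]
    have h2 : ((cx V).toCycles p (p + 1) ≫ (cx V).homologyπ (p + 1)).hom t = 0 := by
      rw [HomologicalComplex.toCycles_comp_homologyπ]
      rfl
    exact h2

variable {V}

/-- The map on cohomology. -/
noncomputable def mapH {W : Sys k ι} (f : Hom V W) (p : ℕ) : H V p →ₗ[k] H W p :=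
  (HomologicalComplex.homologyMap (cxMap f) p).hom

theorem mapC_mem {W : Sys k ι} (f : Hom V W) (p : ℕ) (s : LinearMap.ker (d V p)) :
    mapC f p s.1 ∈ LinearMap.ker (d W p) := by
  rw [LinearMap.mem_ker, ← mapC_d, LinearMap.mem_ker.mp s.2, map_zero]

theorem mapH_cls {W : Sys k ι} (f : Hom V W) (p : ℕ) (s : LinearMap.ker (d V p)) :
    mapH f p (cls V p s) = cls W p ⟨mapC f p s.1, mapC_mem f p s⟩ := by
  have h1 : ((cx V).homologyπ p ≫ HomologicalComplex.homologyMap (cxMap f) p).hom (cyc V p s) =
      (HomologicalComplex.cyclesMap (cxMap f) p ≫ (cx W).homologyπ p).hom (cyc V p s) := by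
    rw [HomologicalComplex.homologyπ_naturality]
  have h2 : (HomologicalComplex.cyclesMap (cxMap f) p).hom (cyc V p s) =
      cyc W p ⟨mapC f p s.1, mapC_mem f p s⟩ := by
    apply iCycles_injective W p
    rw [iCycles_cyc]
    have h3 : (HomologicalComplex.cyclesMap (cxMap f) p ≫ (cx W).iCycles p).hom (cyc V p s) =
        ((cx V).iCycles p ≫ (cxMap f).f p).hom (cyc V p s) := by
      rw [HomologicalComplex.cyclesMap_i]
    refine h3.trans ?_
    change ((cxMap f).f p).hom (((cx V).iCycles p).hom (cyc V p s)) = mapC f p s.1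
    rw [iCycles_cyc]
    rfl
  refine h1.trans ?_
  change ((cx W).homologyπ p).hom ((HomologicalComplex.cyclesMap (cxMap f) p).hom (cyc V p s)) = _
  rw [h2]
  rfl

/-- The connecting map. -/
noncomputable def delta {V' V'' : Sys k ι} {f : Hom V' V} {g : Hom V V''} (h : IsSES f g) (i : ℕ) :
    H V'' i →ₗ[k] H V' (i + 1) := ((sc_shortExact h).δ i (i + 1) (by simp)).hom

theorem delta_injective {V' V'' : Sys k ι} {f : Hom V' V} {g : Hom V V''} (h : IsSES f g) (i : ℕ)
    (h1 : Subsingleton (H V i)) : Function.Injective (delta h i) := by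
  rw [← ModuleCat.isZero_iff_subsingleton] at h1
  have := (sc_shortExact h).mono_δ i (i + 1) (by simp) h1
  exact (ModuleCat.mono_iff_injective _).1 this

/-- Naturality of the connecting maps. -/
theorem delta_natural {V' V'' W' W W'' : Sys k ι} {f : Hom V' V} {g : Hom V V''} (h : IsSES f g)
    {f' : Hom W' W} {g' : Hom W W''} (h' : IsSES f' g') (a' : Hom V' W') (a : Hom V W)
    (a'' : Hom V'' W'') (h1 : ∀ I x, a.app I (f.app I x) = f'.app I (a'.app I x))
    (h2 : ∀ I x, a''.app I (g.app I x) = g'.app I (a.app I x)) (i : ℕ) (z : H V'' i) :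
    mapH a' (i + 1) (delta h i z) = delta h' i (mapH a'' i z) := by
  let φ : sc h ⟶ sc h' := ShortComplex.homMk (cxMap a') (cxMap a) (cxMap a'')
    (by
      change cxMap a' ≫ cxMap f' = cxMap f ≫ cxMap a
      ext p : 1
      rw [HomologicalComplex.comp_f, HomologicalComplex.comp_f, cxMap_f, cxMap_f, cxMap_f, cxMap_f]
      apply ModuleCat.hom_ext
      refine LinearMap.ext fun s => funext fun σ => ?_
      exact (h1 _ _).symm)
    (by
      change cxMap a ≫ cxMap g' = cxMap g ≫ cxMap a''
      ext p : 1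
      rw [HomologicalComplex.comp_f, HomologicalComplex.comp_f, cxMap_f, cxMap_f, cxMap_f, cxMap_f]
      apply ModuleCat.hom_ext
      refine LinearMap.ext fun s => funext fun σ => ?_
      exact (h2 _ _).symm)
  have := HomologicalComplex.HomologySequence.δ_naturality φ (sc_shortExact h) (sc_shortExact h')
    i (i + 1) (by simp)
  have h3 := congrArg (fun q => q.hom z) this
  exact h3

theorem mapH_comp {W U : Sys k ι} (f : Hom V W) (g : Hom W U) (e : Hom V U)
    (he : ∀ I x, e.app I x = g.app I (f.app I x)) (p : ℕ) (z : H V p) :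
    mapH e p z = mapH g p (mapH f p z) := by
  obtain ⟨s, rfl⟩ := cls_surjective V p z
  rw [mapH_cls, mapH_cls, mapH_cls]
  congr 2
  funext σ
  exact he _ _

end Groth.Agent.Lefpen.H728.Cls
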