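import Mathlib.NumberTheory.Padics.PadicVal.Basic
import Mathlib.Data.Nat.Choose.Multinomial
import Mathlib.Data.Nat.ModEq

/-!
# Cyclic rotation of digits and the `p`-adic valuation of multinomial coefficients

The combinatorial half of Ax's theorem on the divisibility of the number of zeros.
-/

set_option autoImplicit false

namespace Groth.Agent.Lefpen.H728.DigitRot

open Finset

/-- Rotating the base `p` digits of `n` cyclically with period `f`. -/
theorem exists_rot (p f : ℕ) (hp : 1 < p) (n : ℕ) :
    ∃ r : ℕ → ℕ, (∀ l, r (l + f) = r l) ∧ (∀ l, r l ≡ p ^ l * n [MOD (p ^ f - 1)]) ∧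
      (∀ l, r l = 0 → n = 0) ∧
      (p - 1) * ∑ l ∈ range f, r l = (p ^ f - 1) * (p.digits n).sum := by
  have hpf : 0 < p ^ f := pow_pos (by omega) f
  have hone : p ^ f ≡ 1 [MOD (p ^ f - 1)] := by
    have : p ^ f = 1 + (p ^ f - 1) := by omega
    conv_lhs => rw [this]
    exact Nat.ModEq.symm (by simp [Nat.ModEq])
  have hmod : ∀ l, p ^ (l % f) ≡ p ^ l [MOD (p ^ f - 1)] := by
    intro l
    conv_rhs => rw [← Nat.mod_add_div l f, pow_add, pow_mul]
    have h2 : (p ^ f) ^ (l / f) ≡ 1 ^ (l / f) [MOD (p ^ f - 1)] := hone.pow _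
    rw [one_pow] at h2
    simpa using (Nat.ModEq.mul_left (p ^ (l % f)) h2).symm
  have hgeom : (p - 1) * ∑ l ∈ range f, p ^ l = p ^ f - 1 := by
    have := Nat.geomSum_eq (m := p) (by omega) f
    rw [this]
    exact Nat.mul_div_cancel' (by simpa using Nat.sub_one_dvd_pow_sub_one p f)
  induction n using Nat.strong_induction_on with
  | _ n ih =>
    rcases Nat.eq_zero_or_pos n with rfl | hn
    · exact ⟨fun _ => 0, by simp, by simp [Nat.ModEq], by simp, by simp⟩
    · obtain ⟨r, hper, hcong, hz, hsum⟩ := ih (n / p) (Nat.div_lt_self hn hp)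
      have hdig : p.digits n = (n % p) :: p.digits (n / p) := Nat.digits_def' hp hn
      refine ⟨fun l => n % p * p ^ (l % f) + r (l + 1), ?_, ?_, ?_, ?_⟩
      · intro l
        have : l + f + 1 = l + 1 + f := by omega
        simp only [Nat.add_mod_right, this, hper]
      · intro l
        have h1 : n % p * p ^ (l % f) + r (l + 1) ≡ n % p * p ^ l + p ^ (l + 1) * (n / p)
            [MOD (p ^ f - 1)] := Nat.ModEq.add (Nat.ModEq.mul_left _ (hmod l)) (hcong (l + 1))
        refine h1.trans ?_
        have : n % p * p ^ l + p ^ (l + 1) * (n / p) = p ^ l * (n % p + p * (n / p)) := by ring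
        rw [this, Nat.mod_add_div]
      · intro l hl
        have h1 : n % p * p ^ (l % f) = 0 := by
          simp only at hl; omega
        have h2 : r (l + 1) = 0 := by
          simp only at hl; omega
        have h3 : n / p = 0 := hz _ h2
        have h4 : n % p = 0 := by
          rcases Nat.mul_eq_zero.mp h1 with h | h
          · exact h
          · exact absurd h (pow_pos (by omega) _).ne'
        have := Nat.mod_add_div n p
        rw [h3, h4] at this
        omega
      · rw [hdig, List.sum_cons, Finset.sum_add_distrib, mul_add, mul_add, ← Finset.mul_sum]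
        have hshift : ∑ l ∈ range f, r (l + 1) = ∑ l ∈ range f, r l := by
          have h1 := Finset.sum_range_succ' r f
          have h2 := Finset.sum_range_succ r f
          have h3 : r f = r 0 := by simpa using hper 0
          omega
        have hmodsum : ∑ l ∈ range f, p ^ (l % f) = ∑ l ∈ range f, p ^ l :=
          Finset.sum_congr rfl fun l hl => by rw [Nat.mod_eq_of_lt (Finset.mem_range.mp hl)]
        rw [hshift, hsum, hmodsum]
        congr 1
        rw [← hgeom]
        ring

/-- Legendre's formula for multinomial coefficients. -/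
theorem sub_one_mul_padicValNat_multinomial {ι : Type*} (p : ℕ) [hp : Fact p.Prime]
    (S : Finset ι) (M : ι → ℕ) :
    (p - 1) * padicValNat p (Nat.multinomial S M) + (p.digits (∑ i ∈ S, M i)).sum =
      ∑ i ∈ S, (p.digits (M i)).sum := by
  have h1 := Nat.multinomial_spec S M
  have hfac : ∀ n : ℕ, (p - 1) * padicValNat p n.factorial + (p.digits n).sum = n := by
    intro n
    rw [sub_one_mul_padicValNat_factorial n]
    exact Nat.sub_add_cancel (Nat.digit_sum_le p n)
  have hprodne : (∏ i ∈ S, (M i).factorial) ≠ 0 :=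
    Finset.prod_ne_zero_iff.mpr fun i _ => Nat.factorial_ne_zero _
  have hmne : Nat.multinomial S M ≠ 0 := (Nat.multinomial_pos S M).ne'
  have h2 := congrArg (padicValNat p) h1
  rw [padicValNat.mul hprodne hmne] at h2
  have h3 : padicValNat p (∏ i ∈ S, (M i).factorial) = ∑ i ∈ S, padicValNat p (M i).factorial := by
    classical
    induction S using Finset.induction_on with
    | empty => simp
    | insert a s ha ih =>
      rw [Finset.prod_insert ha, Finset.sum_insert ha, padicValNat.mul (Nat.factorial_ne_zero _)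
        (Finset.prod_ne_zero_iff.mpr fun i _ => Nat.factorial_ne_zero _), ih]
      · exact Nat.multinomial_spec _ _
      · exact Finset.prod_ne_zero_iff.mpr fun i _ => Nat.factorial_ne_zero _
      · exact (Nat.multinomial_pos _ _).ne'
      · have := Nat.multinomial_spec s M
        have h4 := congrArg (padicValNat p) this
        rwa [padicValNat.mul (Finset.prod_ne_zero_iff.mpr fun i _ => Nat.factorial_ne_zero _)
          (Nat.multinomial_pos _ _).ne'] at h4
  rw [h3] at h2
  have h4 : (p - 1) * (∑ i ∈ S, padicValNat p (M i).factorial) +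
      ∑ i ∈ S, (p.digits (M i)).sum = ∑ i ∈ S, M i := by
    rw [Finset.mul_sum, ← Finset.sum_add_distrib]
    exact Finset.sum_congr rfl fun i _ => hfac (M i)
  have h5 := hfac (∑ i ∈ S, M i)
  rw [← h2, mul_add] at h5
  omega

/-- Multiplying by a power of the base does not change the digit sum. -/
theorem digits_mul_pow_sum (p k n : ℕ) (hp : 1 < p) :
    (p.digits (n * p ^ k)).sum = (p.digits n).sum := by
  induction k with
  | zero => simp
  | succ k ih =>
    rcases Nat.eq_zero_or_pos n with rfl | hn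
    · simp
    · have h1 : n * p ^ (k + 1) = p * (n * p ^ k) := by ring
      have h2 : 0 < p * (n * p ^ k) := by positivity
      rw [h1, Nat.digits_def' hp h2]
      simp only [List.sum_cons, Nat.mul_mod_right, zero_add]
      rw [Nat.mul_div_cancel_left _ (by omega), ih]

theorem digits_pow_sub_one_sum (p f : ℕ) (hp : 1 < p) :
    (p.digits (p ^ f - 1)).sum = f * (p - 1) := by
  induction f with
  | zero => simp
  | succ f ih =>
    have hpf : 0 < p ^ f := pow_pos (by omega) f
    have h1 : p ^ (f + 1) - 1 = (p - 1) + p * (p ^ f - 1) := by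
      have : p ^ (f + 1) = p * p ^ f := by ring
      rw [this, Nat.mul_sub]
      have : p ≤ p * p ^ f := Nat.le_mul_of_pos_right _ hpf
      omega
    have h2 : 0 < (p - 1) + p * (p ^ f - 1) := by
      have : 0 < p - 1 := by omega
      omega
    rw [h1, Nat.digits_def' hp h2, Nat.add_mul_mod_self_left, Nat.mod_eq_of_lt (by omega),
      Nat.add_mul_div_left _ _ (by omega), Nat.div_eq_of_lt (by omega), zero_add,
      List.sum_cons, ih]
    ring

/-- The combinatorial heart of Ax's theorem. Here `M` is a multi-index over the set `S` of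
monomials, `w s i` the exponent of the `i`-th variable in the monomial `s`, and `d` bounds the
degrees. -/
theorem digit_sum_bound {ι κ : Type*} [Fintype κ] (p f d : ℕ) (hp : 1 < p) (hf : 0 < f)
    (S : Finset ι) (M : ι → ℕ) (w : ι → κ → ℕ) (hw : ∀ s ∈ S, ∑ i, w s i ≤ d)
    (hM : (p ^ f - 1) ∣ ∑ s ∈ S, M s)
    (he : ∀ i, (p ^ f - 1) ∣ ∑ s ∈ S, M s * w s i) :
    ∃ c : ℕ, (Finset.univ.filter fun i : κ => ∑ s ∈ S, M s * w s i ≠ 0).card ≤ d * c ∧
      f * (p - 1) * c ≤ ∑ s ∈ S, (p.digits (M s)).sum := by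
  classical
  choose r hper hcong hz hsum using fun s : ι => exists_rot p f hp (M s)
  set A : Finset κ := Finset.univ.filter fun i : κ => ∑ s ∈ S, M s * w s i ≠ 0 with hA
  have hq : 0 < p ^ f - 1 := by
    have := Nat.one_lt_pow hf.ne' hp
    omega
  -- the rotated exponents
  have h1 : ∀ l, ∀ i ∈ A, p ^ f - 1 ≤ ∑ s ∈ S, r s l * w s i := by
    intro l i hi
    have hd : (p ^ f - 1) ∣ ∑ s ∈ S, r s l * w s i := by
      have h2 : ∑ s ∈ S, r s l * w s i ≡ ∑ s ∈ S, (p ^ l * M s) * w s i [MOD (p ^ f - 1)] := by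
        have : ∀ T : Finset ι, ∑ s ∈ T, r s l * w s i ≡ ∑ s ∈ T, (p ^ l * M s) * w s i
            [MOD (p ^ f - 1)] := by
          intro T
          induction T using Finset.induction_on with
          | empty => simp [Nat.ModEq]
          | insert a T ha ih =>
            rw [Finset.sum_insert ha, Finset.sum_insert ha]
            exact Nat.ModEq.add (Nat.ModEq.mul_right _ (hcong a l)) ih
        exact this S
      have h3 : ∑ s ∈ S, (p ^ l * M s) * w s i = p ^ l * ∑ s ∈ S, M s * w s i := by
        rw [Finset.mul_sum]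
        exact Finset.sum_congr rfl fun s _ => by ring
      rw [h3] at h2
      exact (Nat.modEq_zero_iff_dvd.mp (h2.trans (Nat.modEq_zero_iff_dvd.mpr
        (Dvd.dvd.mul_left (he i) _))))
    refine Nat.le_of_dvd (Nat.pos_of_ne_zero fun h0 => ?_) hd
    have h4 : ∑ s ∈ S, M s * w s i ≠ 0 := by
      rw [hA] at hi
      exact (Finset.mem_filter.mp hi).2
    apply h4
    refine Finset.sum_eq_zero fun s hs => ?_
    have h5 : r s l * w s i = 0 := (Finset.sum_eq_zero_iff.mp h0) s hs
    rcases Nat.mul_eq_zero.mp h5 with h | h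
    · rw [hz s l h, zero_mul]
    · rw [h, mul_zero]
  have h2 : ∀ l, ∃ c, ∑ s ∈ S, r s l = (p ^ f - 1) * c ∧ A.card ≤ d * c := by
    intro l
    have hd : (p ^ f - 1) ∣ ∑ s ∈ S, r s l := by
      have h2 : ∑ s ∈ S, r s l ≡ ∑ s ∈ S, p ^ l * M s [MOD (p ^ f - 1)] := by
        have : ∀ T : Finset ι, ∑ s ∈ T, r s l ≡ ∑ s ∈ T, p ^ l * M s [MOD (p ^ f - 1)] := by
          intro T
          induction T using Finset.induction_on with
          | empty => simp [Nat.ModEq]
          | insert a T ha ih =>
            rw [Finset.sum_insert ha, Finset.sum_insert ha]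
            exact Nat.ModEq.add (hcong a l) ih
        exact this S
      rw [← Finset.mul_sum] at h2
      exact (Nat.modEq_zero_iff_dvd.mp (h2.trans (Nat.modEq_zero_iff_dvd.mpr
        (Dvd.dvd.mul_left hM _))))
    obtain ⟨c, hc⟩ := hd
    refine ⟨c, hc, ?_⟩
    have h3 : A.card * (p ^ f - 1) ≤ ∑ i ∈ A, ∑ s ∈ S, r s l * w s i := by
      rw [← smul_eq_mul]
      exact Finset.card_nsmul_le_sum _ _ _ (h1 l)
    have h4 : ∑ i ∈ A, ∑ s ∈ S, r s l * w s i ≤ d * ∑ s ∈ S, r s l := by
      rw [Finset.sum_comm, Finset.mul_sum]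
      refine Finset.sum_le_sum fun s hs => ?_
      rw [← Finset.mul_sum, mul_comm d]
      refine Nat.mul_le_mul_left _ (le_trans ?_ (hw s hs))
      exact Finset.sum_le_sum_of_subset (Finset.subset_univ _)
    rw [hc] at h4
    have h5 : A.card * (p ^ f - 1) ≤ (d * c) * (p ^ f - 1) := by
      calc _ ≤ _ := h3
        _ ≤ _ := h4
        _ = _ := by ring
    exact Nat.le_of_mul_le_mul_right h5 hq
  choose c hc hAc using h2
  -- choose the smallest `c l`, `l < f`
  obtain ⟨l0, hl0, hmin⟩ := Finset.exists_min_image (range f) c ⟨0, Finset.mem_range.mpr hf⟩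
  refine ⟨c l0, hAc l0, ?_⟩
  have h3 : (p - 1) * ∑ l ∈ range f, ∑ s ∈ S, r s l =
      (p ^ f - 1) * ∑ s ∈ S, (p.digits (M s)).sum := by
    rw [Finset.sum_comm, Finset.mul_sum, Finset.mul_sum]
    exact Finset.sum_congr rfl fun s _ => hsum s
  have h4 : f * ((p ^ f - 1) * c l0) ≤ ∑ l ∈ range f, ∑ s ∈ S, r s l := by
    have : (range f).card • ((p ^ f - 1) * c l0) ≤ ∑ l ∈ range f, ∑ s ∈ S, r s l := by
      refine Finset.card_nsmul_le_sum _ _ _ fun l hl => ?_
      rw [hc l]
      exact Nat.mul_le_mul_left _ (hmin l hl)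
    simpa using this
  have h5 : (p ^ f - 1) * (f * (p - 1) * c l0) ≤
      (p ^ f - 1) * ∑ s ∈ S, (p.digits (M s)).sum := by
    rw [← h3]
    calc (p ^ f - 1) * (f * (p - 1) * c l0) = (p - 1) * (f * ((p ^ f - 1) * c l0)) := by ring
      _ ≤ _ := Nat.mul_le_mul_left _ h4
  exact Nat.le_of_mul_le_mul_left h5 hq

/-- The valuation of the multinomial coefficients which occur in the expansion of
`F ^ ((q - 1) p ^ k)`. -/
theorem multinomial_valuation {ι κ : Type*} [Fintype κ] (p f d k : ℕ) [hpp : Fact p.Prime]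
    (hf : 0 < f) (S : Finset ι) (M : ι → ℕ) (w : ι → κ → ℕ) (hw : ∀ s ∈ S, ∑ i, w s i ≤ d)
    (hM : ∑ s ∈ S, M s = (p ^ f - 1) * p ^ k)
    (he : ∀ i, (p ^ f - 1) ∣ ∑ s ∈ S, M s * w s i) (j : ℕ) (hd : 0 < d)
    (hj : j * d < Fintype.card κ) :
    p ^ (f * j) ∣ Nat.multinomial S M *
      p ^ (f * (Finset.univ.filter fun i : κ => ∑ s ∈ S, M s * w s i = 0).card) := by
  classical
  have hp : 1 < p := hpp.out.one_lt
  obtain ⟨c, hc1, hc2⟩ := digit_sum_bound p f d hp hf S M w hw
    (by rw [hM]; exact dvd_mul_right _ _) he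
  have h1 := sub_one_mul_padicValNat_multinomial p S M
  rw [hM, digits_mul_pow_sum p k _ hp, digits_pow_sub_one_sum p f hp] at h1
  rw [← h1] at hc2
  -- `f c ≤ v + f`
  have h2 : f * c ≤ padicValNat p (Nat.multinomial S M) + f := by
    have h3 : (p - 1) * (f * c) ≤ (p - 1) * (padicValNat p (Nat.multinomial S M) + f) := by
      calc (p - 1) * (f * c) = f * (p - 1) * c := by ring
        _ ≤ _ := hc2
        _ = _ := by ring
    exact Nat.le_of_mul_le_mul_left h3 (by omega)
  set Z := (Finset.univ.filter fun i : κ => ∑ s ∈ S, M s * w s i = 0).card with hZ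
  have hcard : Z + (Finset.univ.filter fun i : κ => ∑ s ∈ S, M s * w s i ≠ 0).card =
      Fintype.card κ := by
    rw [hZ, Finset.card_filter_add_card_filter_not]
    rfl
  have hcz : j + 1 ≤ c + Z := by
    by_contra hcon
    have h3 : c + Z ≤ j := by omega
    have h4 : d * (c + Z) ≤ d * j := Nat.mul_le_mul_left _ h3
    have h5 : Z ≤ d * Z := Nat.le_mul_of_pos_left _ hd
    have h6 : d * (c + Z) = d * c + d * Z := by ring
    have h7 : d * j = j * d := by ring
    omega
  have h3 : f * j ≤ padicValNat p (Nat.multinomial S M) + f * Z := by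
    have : f * (j + 1) ≤ f * (c + Z) := Nat.mul_le_mul_left _ hcz
    have e1 : f * (j + 1) = f * j + f := by ring
    have e2 : f * (c + Z) = f * c + f * Z := by ring
    omega
  calc p ^ (f * j) ∣ p ^ (padicValNat p (Nat.multinomial S M) + f * Z) := pow_dvd_pow _ h3
    _ = p ^ padicValNat p (Nat.multinomial S M) * p ^ (f * Z) := pow_add _ _ _
    _ ∣ _ := Nat.mul_dvd_mul_right pow_padicValNat_dvd _

end Groth.Agent.Lefpen.H728.DigitRot
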