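import Groth.Agent.Lefpen.H722.Sys
import Groth.Agent.CohqA.LaurentCech
import Mathlib.GroupTheory.Perm.Fin
import Mathlib.LinearAlgebra.Dimension.StrongRankCondition
import Mathlib.LinearAlgebra.FreeModule.StrongRankCondition

/-!
# The Čech system of `O(m)` on projective space

`lau k ι m` is the system `I ↦ Lsub k m I`; we compute its cohomology: `H^p = 0` for `p ≥ 1` unless
`p + 1 ≥ card ι` and `m ≤ - card ι`; `H^0` is `Lsub k m ∅` if `card ι ≥ 2`; and `H^{card ι - 1}` is
the space of Laurent polynomials of degree `m` with all exponents negative.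
-/

set_option autoImplicit false
universe u

namespace Groth.Agent.Lefpen.H728.LauSys

open Groth.Agent.Lefpen.H722.Sys Groth.Agent.CohqA.LaurentCech CategoryTheory

section General

variable {k : Type u} [CommRing k] {ι : Type} (V : Sys k ι)

/-- Homology in positive degrees as a subquotient. -/
theorem nonempty_equiv_of_surjective (p : ℕ) {W : Type u} [AddCommGroup W] [Module k W]
    (φ : LinearMap.ker (d V (p + 1)) →ₗ[k] W) (hsurj : Function.Surjective φ)
    (hker : ∀ s : LinearMap.ker (d V (p + 1)), φ s = 0 ↔ ∃ t : C V p, d V p t = s.1) :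
    Nonempty (H V (p + 1) ≃ₗ[k] W) := by
  let S : ShortComplex (ModuleCat.{u} k) := ShortComplex.mk (ModuleCat.ofHom (d V p))
    (ModuleCat.ofHom (d V (p + 1))) (by
      apply ModuleCat.hom_ext
      refine LinearMap.ext fun s => ?_
      exact d_d V p s)
  have e1 : (cx V).homology (p + 1) ≅ ((cx V).sc' p (p + 1) (p + 2)).homology :=
    ShortComplex.homologyMapIso ((cx V).isoSc' p (p + 1) (p + 2) (by simp) (by simp))
  have e2 : (cx V).sc' p (p + 1) (p + 2) ≅ S :=
    ShortComplex.isoMk (Iso.refl _) (Iso.refl _) (Iso.refl _)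
      (by
        change 𝟙 _ ≫ ModuleCat.ofHom (d V p) = (cx V).d p (p + 1) ≫ 𝟙 _
        rw [cx_d, Category.id_comp, Category.comp_id])
      (by
        change 𝟙 _ ≫ ModuleCat.ofHom (d V (p + 1)) = (cx V).d (p + 1) (p + 2) ≫ 𝟙 _
        rw [cx_d, Category.id_comp, Category.comp_id])
  have e3 : H V (p + 1) ≃ₗ[k] (LinearMap.ker S.g.hom ⧸ LinearMap.range S.moduleCatToCycles) :=
    (e1.trans ((ShortComplex.homologyMapIso e2).trans S.moduleCatHomologyIso)).toLinearEquiv
  have h1 : LinearMap.range S.moduleCatToCycles = LinearMap.ker φ := by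
    ext s
    rw [LinearMap.mem_ker, hker s]
    constructor
    · rintro ⟨t, ht⟩
      exact ⟨t, congrArg Subtype.val ht⟩
    · rintro ⟨t, ht⟩
      exact ⟨t, Subtype.ext ht⟩
  exact ⟨e3.trans ((Submodule.quotEquivOfEq _ _ h1).trans (φ.quotKerEquivOfSurjective hsurj))⟩

end General

variable (k : Type u) [CommRing k] (ι : Type) [Fintype ι]

/-- The system of `O(m)`. -/
noncomputable def lau (m : ℤ) : Sys k ι where
  M I := Lsub k m I
  res {_ _} h := Submodule.inclusion (Lsub_mono h)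
  res_res _ _ _ := rfl

variable {k ι}

/-- The underlying Laurent polynomial of a section. -/
noncomputable def toL {m : ℤ} {I : Set ι} : (lau k ι m).M I →ₗ[k] L ι k := (Lsub k m I).subtype

theorem toL_mem {m : ℤ} {I : Set ι} (x : (lau k ι m).M I) : toL x ∈ Lsub k m I :=
  Subtype.property (p := fun y => y ∈ Lsub k m I) x

theorem toL_injective {m : ℤ} {I : Set ι} :
    Function.Injective (toL : (lau k ι m).M I →ₗ[k] L ι k) :=
  Subtype.val_injective (p := fun y => y ∈ Lsub k m I)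

/-- Sections from Laurent polynomials. -/
def ofL {m : ℤ} {I : Set ι} (x : L ι k) (hx : x ∈ Lsub k m I) : (lau k ι m).M I :=
  (⟨x, hx⟩ : Lsub k m I)

theorem toL_ofL {m : ℤ} {I : Set ι} (x : L ι k) (hx : x ∈ Lsub k m I) :
    toL (ofL x hx) = x := rfl

theorem toL_res {m : ℤ} {I J : Set ι} (h : I ⊆ J) (x : (lau k ι m).M I) :
    toL ((lau k ι m).res h x) = toL x := rfl

theorem toL_d {m : ℤ} {p : ℕ} (s : C (lau k ι m) p) (σ : Fin (p + 2) → ι) :
    toL (d (lau k ι m) p s σ) =
      ∑ j : Fin (p + 2), (-1 : ℤ) ^ (j : ℕ) • toL (s (σ ∘ j.succAbove)) := by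
  rw [d_apply, map_sum]
  refine Finset.sum_congr rfl fun j _ => ?_
  rw [map_zsmul, toL_res]

theorem C_ext {m : ℤ} {p : ℕ} {s t : C (lau k ι m) p} (h : ∀ σ, toL (s σ) = toL (t σ)) :
    s = t := funext fun σ => toL_injective (h σ)

/-- Vanishing in positive degrees. -/
theorem subsingleton_H {m : ℤ} {p : ℕ}
    (hdeg : -(Fintype.card ι : ℤ) < m ∨ p + 2 < Fintype.card ι) :
    Subsingleton (H (lau k ι m) (p + 1)) := by
  rw [subsingleton_iff_exact]
  intro s hs
  obtain ⟨t, ht, hts⟩ := exists_cobounding (p := p + 1) (d := m) (fun σ => toL (s σ))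
    (fun σ => toL_mem (s σ))
    (fun σ => by
      rw [← toL_d, hs]; rfl) (by
      rcases hdeg with h | h
      · exact Or.inl h
      · exact Or.inr (by omega))
  refine ⟨fun σ => ofL (t σ) (ht σ), C_ext fun σ => ?_⟩
  rw [toL_d]
  exact hts σ

/-! ### `H^0` -/

theorem mem_empty_of_forall {m : ℤ} (hcard : 2 ≤ Fintype.card ι) {x : L ι k}
    (h : ∀ i : ι, x ∈ Lsub k m {i}) : x ∈ Lsub k m ∅ := by
  intro μ hμ
  have : Nontrivial ι := Fintype.one_lt_card_iff_nontrivial.mp hcard
  obtain ⟨i₀⟩ : Nonempty ι := inferInstance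
  refine ⟨(h i₀ μ hμ).1, fun l _ => ?_⟩
  obtain ⟨i, hi⟩ := exists_ne l
  exact (h i μ hμ).2 l (fun hl => hi (Set.mem_singleton_iff.mp hl).symm)

/-- Global sections of `O(m)`. -/
theorem nonempty_h0_equiv (m : ℤ) (hcard : 2 ≤ Fintype.card ι) :
    Nonempty (H (lau k ι m) 0 ≃ₗ[k] Lsub k m (∅ : Set ι)) := by
  have hn : Nontrivial ι := Fintype.one_lt_card_iff_nontrivial.mp hcard
  obtain ⟨i₀⟩ : Nonempty ι := inferInstance
  let φ : Lsub k m (∅ : Set ι) →ₗ[k] LinearMap.ker (d (lau k ι m) 0) :=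
    LinearMap.codRestrict _ (LinearMap.pi fun σ =>
      (Submodule.inclusion (Lsub_mono (Set.empty_subset (Set.range σ))) :
        Lsub k m (∅ : Set ι) →ₗ[k] Lsub k m (Set.range σ))) (fun x => by
      rw [LinearMap.mem_ker]
      refine C_ext fun σ => ?_
      rw [toL_d, Fin.sum_univ_two]
      change (-1 : ℤ) ^ 0 • x.1 + (-1 : ℤ) ^ 1 • x.1 = (0 : L ι k)
      simp)
  have hφ : ∀ x σ, toL ((φ x).1 σ) = x.1 := fun _ _ => rfl
  refine ⟨((LinearEquiv.ofBijective φ ⟨?_, ?_⟩).trans (h0Equiv (lau k ι m))).symm⟩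
  · intro x y hxy
    apply Subtype.ext
    rw [← hφ x (fun _ => i₀), ← hφ y (fun _ => i₀), hxy]
  · rintro ⟨s, hs⟩
    have h1 : ∀ i j : ι, toL (s (fun _ => i)) = toL (s (fun _ => j)) := by
      intro i j
      have h2 : toL (d (lau k ι m) 0 s ![i, j]) = 0 := by
        rw [LinearMap.mem_ker.mp hs]; rfl
      rw [toL_d, Fin.sum_univ_two] at h2
      have h3 : (![i, j] ∘ (0 : Fin 2).succAbove) = fun _ => j := by
        funext a; fin_cases a; rfl
      have h4 : (![i, j] ∘ (1 : Fin 2).succAbove) = fun _ => i := by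
        funext a; fin_cases a; rfl
      have h5 : toL (s (![i, j] ∘ (0 : Fin 2).succAbove)) = toL (s (fun _ => j)) := by
        rw [h3]
      have h6 : toL (s (![i, j] ∘ (1 : Fin 2).succAbove)) = toL (s (fun _ => i)) := by
        rw [h4]
      rw [h5, h6] at h2
      simp only [Fin.val_zero, pow_zero, one_smul, Fin.val_one, pow_one, neg_smul] at h2
      exact (sub_eq_zero.mp (by rw [sub_eq_add_neg]; exact h2)).symm
    have h2 : toL (s (fun _ => i₀)) ∈ Lsub k m (∅ : Set ι) := by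
      refine mem_empty_of_forall hcard fun i => ?_
      rw [h1 i₀ i]
      have h3 := toL_mem (s (fun _ => i))
      exact Lsub_mono (by rintro _ ⟨_, rfl⟩; rfl) h3
    refine ⟨⟨_, h2⟩, Subtype.ext (C_ext fun σ => ?_)⟩
    rw [hφ]
    have h3 : σ = fun _ => σ 0 := by
      funext a
      have : a = 0 := Fin.fin_one_eq_zero a
      rw [this]
    rw [h3]
    exact h1 _ _

theorem Lsub_empty_eq_bot {m : ℤ} (hm : m < 0) : Lsub k m (∅ : Set ι) = ⊥ := by
  rw [eq_bot_iff]
  intro x hx
  rw [Submodule.mem_bot]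
  ext μ
  by_contra hne
  obtain ⟨h1, h2⟩ := hx μ hne
  have : 0 ≤ ∑ i, μ i := Finset.sum_nonneg fun i _ => h2 i (Set.notMem_empty i)
  omega

theorem subsingleton_H0 {m : ℤ} (hcard : 2 ≤ Fintype.card ι) (hm : m < 0) :
    Subsingleton (H (lau k ι m) 0) := by
  obtain ⟨e⟩ := nonempty_h0_equiv (k := k) m hcard
  have : Subsingleton (Lsub k m (∅ : Set ι)) := by
    rw [Lsub_empty_eq_bot hm]; infer_instance
  exact e.toEquiv.subsingleton

/-- `Lsub k 0 ∅` is spanned by `1`. -/
noncomputable def Lsub_zero_equiv : k ≃ₗ[k] Lsub k 0 (∅ : Set ι) := by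
  refine LinearEquiv.ofBijective (LinearMap.codRestrict _
    (Finsupp.lsingle (0 : ι → ℤ)) fun c => ?_) ⟨?_, ?_⟩
  · intro μ hμ
    rw [Finsupp.lsingle_apply, Finsupp.single_apply] at hμ
    split_ifs at hμ with h
    · subst h; exact ⟨by simp, fun _ _ => le_rfl⟩
    · exact absurd rfl hμ
  · intro a b hab
    exact Finsupp.single_injective _ (congrArg Subtype.val hab)
  · rintro ⟨x, hx⟩
    refine ⟨x 0, Subtype.ext ?_⟩
    change Finsupp.single 0 (x 0) = x
    ext μ
    rw [Finsupp.single_apply]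
    split_ifs with h
    · rw [h]
    · symm
      by_contra hne
      obtain ⟨h1, h2⟩ := hx μ hne
      apply h
      have h3 := (Finset.sum_eq_zero_iff_of_nonneg fun i _ => h2 i (Set.notMem_empty i)).mp h1
      funext i
      exact (h3 i (Finset.mem_univ i)).symm

theorem finrank_H0 [Nontrivial k] (hcard : 2 ≤ Fintype.card ι) :
    Module.finrank k (H (lau k ι 0) 0) = 1 := by
  obtain ⟨e⟩ := nonempty_h0_equiv (k := k) 0 hcard
  rw [e.finrank_eq, ← Lsub_zero_equiv.finrank_eq]
  exact _root_.Module.finrank_self k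

end Groth.Agent.Lefpen.H728.LauSys
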