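import Groth.Agent.Lefpen.H728.LauSys
import Mathlib.GroupTheory.Perm.Fin
import Mathlib.GroupTheory.Perm.Closure
import Mathlib.LinearAlgebra.Matrix.ToLinearEquiv
import Mathlib.LinearAlgebra.Matrix.Determinant.Basic

/-!
# The top cohomology of `O(m)` on projective space
-/

set_option autoImplicit false
universe u

namespace Groth.Agent.Lefpen.H728.LauSys

open Groth.Agent.Lefpen.H722.Sys Groth.Agent.CohqA.LaurentCech CategoryTheory

variable (k : Type u) [CommRing k] (ι : Type) [Fintype ι]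

/-- Laurent polynomials of degree `m` all of whose exponents are negative. -/
def Lneg (m : ℤ) : Submodule k (L ι k) where
  carrier := {f | ∀ μ, f μ ≠ 0 → ∑ i, μ i = m ∧ ∀ i, μ i < 0}
  zero_mem' := fun m hm => absurd rfl hm
  add_mem' := fun {f g} hf hg m hm => by
    by_cases h : f m = 0
    · refine hg m fun h' => hm ?_
      rw [Finsupp.add_apply, h, h', add_zero]
    · exact hf m h
  smul_mem' := fun r f hf m hm => hf m fun h => hm (by rw [Finsupp.smul_apply, h, smul_zero])

variable {k ι}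

theorem Lneg_eq_bot {m : ℤ} (hm : -(Fintype.card ι : ℤ) < m) : Lneg k ι m = ⊥ := by
  rw [eq_bot_iff]
  intro x hx
  rw [Submodule.mem_bot]
  ext μ
  by_contra hne
  obtain ⟨h1, h2⟩ := hx μ hne
  have h3 : ∑ k, μ k ≤ ∑ _k : ι, (-1 : ℤ) :=
    Finset.sum_le_sum fun k _ => by have := h2 k; omega
  simp at h3
  omega

/-- `Lneg k (-card ι)` is spanned by the monomial with all exponents `-1`. -/
noncomputable def Lneg_equiv : k ≃ₗ[k] Lneg k ι (-(Fintype.card ι : ℤ)) := by
  refine LinearEquiv.ofBijective (LinearMap.codRestrict _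
    (Finsupp.lsingle (fun _ => -1 : ι → ℤ)) fun c => ?_) ⟨?_, ?_⟩
  · intro μ hμ
    rw [Finsupp.lsingle_apply, Finsupp.single_apply] at hμ
    split_ifs at hμ with h
    · subst h; exact ⟨by simp, fun _ => by norm_num⟩
    · exact absurd rfl hμ
  · intro a b hab
    exact Finsupp.single_injective _ (congrArg Subtype.val hab)
  · rintro ⟨x, hx⟩
    refine ⟨x (fun _ => -1), Subtype.ext ?_⟩
    change Finsupp.single _ (x _) = x
    ext μ
    rw [Finsupp.single_apply]
    split_ifs with h
    · rw [h]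
    · symm
      by_contra hne
      obtain ⟨h1, h2⟩ := hx μ hne
      apply h
      have h4 : ∑ i, (-1 - μ i) = 0 := by
        rw [Finset.sum_sub_distrib, h1]; simp
      have h3 := (Finset.sum_eq_zero_iff_of_nonneg fun i _ => by have := h2 i; omega).mp h4
      funext i
      have := h3 i (Finset.mem_univ i)
      omega

theorem coeff_eq_zero {m : ℤ} {J : Set ι} (x : (lau k ι m).M J) (μ : ι → ℤ) (hμ : ∀ i, μ i < 0)
    (hJ : J ≠ Set.univ) : toL x μ = 0 := by
  by_contra hne
  obtain ⟨i, hi⟩ := (Set.ne_univ_iff_exists_notMem J).mp hJ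
  exact absurd ((toL_mem x μ hne).2 i hi) (not_le.mpr (hμ i))

/-- The cocycle relation at a negative exponent. -/
theorem coeff_cycleRange {m : ℤ} {q : ℕ} (s : C (lau k ι m) q)
    (hs : d (lau k ι m) q s = 0) (μ : ι → ℤ) (hμ : ∀ i, μ i < 0) (σ : Fin (q + 1) → ι)
    (hσ : Function.Bijective σ) (j : Fin (q + 1)) :
    toL (s (σ ∘ j.cycleRange.symm)) μ = (-1 : ℤ) ^ (j : ℕ) • toL (s σ) μ := by
  have h1 : toL (d (lau k ι m) q s (Fin.cons (σ j) σ)) μ = 0 := by
    rw [hs]; rfl
  rw [toL_d, Finsupp.finsetSum_apply, Fin.sum_univ_succ, Fin.sum_univ_succAbove _ j] at h1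
  have h2 : ∀ a : Fin q, ((-1 : ℤ) ^ ((j.succAbove a).succ : ℕ) •
      toL (s ((Fin.cons (σ j) σ : Fin (q + 2) → ι) ∘ (j.succAbove a).succ.succAbove))) μ = 0 := by
    intro a
    rw [Finsupp.smul_apply, coeff_eq_zero _ μ hμ, smul_zero]
    rw [cons_comp_succ_succAbove]
    rw [Set.ne_univ_iff_exists_notMem]
    refine ⟨σ (j.succAbove a), ?_⟩
    rintro ⟨b, hb⟩
    revert hb
    refine Fin.cases ?_ (fun b => ?_) b
    · intro hb
      rw [Fin.cons_zero] at hb
      exact (Fin.succAbove_ne j a) (hσ.1 hb).symm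
    · intro hb
      rw [Fin.cons_succ] at hb
      exact (Fin.succAbove_ne _ _) (hσ.1 hb)
  rw [Finset.sum_eq_zero (fun a _ => h2 a), add_zero, Finsupp.smul_apply, Finsupp.smul_apply] at h1
  have h3 : (Fin.cons (σ j) σ : Fin (q + 2) → ι) ∘ (0 : Fin (q + 2)).succAbove = σ :=
    cons_comp_zero_succAbove _ _
  have h4 : (Fin.cons (σ j) σ : Fin (q + 2) → ι) ∘ j.succ.succAbove = σ ∘ j.cycleRange.symm := by
    rw [cons_comp_succ_succAbove]
    exact Fin.cons_removeNth_eq_comp_cycleRange_symm σ j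
  have h5 : toL (s ((Fin.cons (σ j) σ : Fin (q + 2) → ι) ∘ (0 : Fin (q + 2)).succAbove)) =
      toL (s σ) := by rw [h3]
  have h6 : toL (s ((Fin.cons (σ j) σ : Fin (q + 2) → ι) ∘ j.succ.succAbove)) =
      toL (s (σ ∘ j.cycleRange.symm)) := by rw [h4]
  rw [h5, h6] at h1
  simp only [Fin.val_zero, pow_zero, one_smul, Fin.val_succ, pow_succ', neg_mul, one_mul,
    neg_smul] at h1
  have h7 : toL (s σ) μ = (-1 : ℤ) ^ (j : ℕ) • toL (s (σ ∘ j.cycleRange.symm)) μ :=
    sub_eq_zero.mp (by rw [sub_eq_add_neg]; exact h1)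
  rw [h7, smul_smul, ← mul_pow]
  simp

/-- The coefficients at negative exponents of a top cocycle are alternating. -/
theorem coeff_perm {m : ℤ} {q : ℕ} (s : C (lau k ι m) (q + 1))
    (hs : d (lau k ι m) (q + 1) s = 0) (μ : ι → ℤ) (hμ : ∀ i, μ i < 0)
    (π : Equiv.Perm (Fin (q + 2))) : ∀ (σ : Fin (q + 2) → ι), Function.Bijective σ →
    toL (s (σ ∘ π)) μ = ((Equiv.Perm.sign π : ℤˣ) : ℤ) • toL (s σ) μ := by
  let K : Subgroup (Equiv.Perm (Fin (q + 2))) :=
    { carrier := {π | ∀ (σ : Fin (q + 2) → ι), Function.Bijective σ →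
        toL (s (σ ∘ π)) μ = ((Equiv.Perm.sign π : ℤˣ) : ℤ) • toL (s σ) μ}
      mul_mem' := by
        intro a b ha hb σ hσ
        have h1 := hb (σ ∘ a) (hσ.comp a.bijective)
        rw [ha σ hσ] at h1
        change toL (s ((σ ∘ a) ∘ b)) μ = _
        rw [h1, smul_smul, Equiv.Perm.sign_mul, mul_comm]
        rfl
      one_mem' := by
        intro σ hσ
        change toL (s σ) μ = _
        simp
      inv_mem' := by
        intro a ha σ hσ
        have h1 := ha (σ ∘ (a⁻¹ : Equiv.Perm _)) (hσ.comp (Equiv.bijective _))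
        have h2 : (σ ∘ (a⁻¹ : Equiv.Perm _)) ∘ a = σ := by
          funext i; simp
        have h3 : toL (s ((σ ∘ (a⁻¹ : Equiv.Perm _)) ∘ a)) = toL (s σ) := by rw [h2]
        rw [h3] at h1
        rw [h1, smul_smul, Equiv.Perm.sign_inv]
        rw [← Units.val_mul, Int.units_mul_self]
        simp }
  have h1 : ∀ j : Fin (q + 2), j.cycleRange ∈ K := by
    intro j
    rw [← inv_mem_iff]
    intro σ hσ
    change toL (s (σ ∘ j.cycleRange.symm)) μ = _
    rw [coeff_cycleRange s hs μ hμ σ hσ j, Equiv.Perm.sign_inv, Fin.sign_cycleRange]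
    simp
  have h2 : K = ⊤ := by
    rw [eq_top_iff, ← Equiv.Perm.closure_cycle_adjacent_swap
      (isCycle_finRotate (n := q)) (support_finRotate (n := q)) 0, Subgroup.closure_le]
    rintro π (rfl | rfl)
    · rw [← Fin.cycleRange_last]
      exact h1 _
    · have h3 : Equiv.swap 0 (finRotate (q + 2) 0) = (1 : Fin (q + 2)).cycleRange := by
        ext i
        rw [Fin.cycleRange_apply]
        simp only [finRotate_apply, zero_add]
        split_ifs with h h'
        · have : i = 0 := by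
            have := Fin.lt_def.mp h
            simpa using this
          subst this; simp
        · subst h'; simp
        · rw [Equiv.swap_apply_of_ne_of_ne _ h']
          intro h0
          subst h0
          exact h (by simp)
      rw [h3]
      exact h1 _
  have h3 : π ∈ K := by rw [h2]; trivial
  exact h3

/-- The negative part of a Laurent polynomial. -/
noncomputable def negPart {m : ℤ} {I : Set ι} : (lau k ι m).M I →ₗ[k] Lneg k ι m where
  toFun x := ⟨(toL x).filter (fun μ => ∀ i, μ i < 0), fun μ hμ => by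
    rw [Finsupp.filter_apply] at hμ
    split_ifs at hμ with h
    · exact ⟨(toL_mem x μ hμ).1, h⟩
    · exact absurd rfl hμ⟩
  map_add' x y := Subtype.ext (by
    change Finsupp.filter _ (toL (x + y)) = Finsupp.filter _ (toL x) + Finsupp.filter _ (toL y)
    rw [map_add, Finsupp.filter_add])
  map_smul' c x := Subtype.ext (by
    change Finsupp.filter _ (toL (c • x)) = c • Finsupp.filter _ (toL x)
    rw [map_smul, Finsupp.filter_smul])

theorem negPart_apply {m : ℤ} {I : Set ι} (x : (lau k ι m).M I) (μ : ι → ℤ) (hμ : ∀ i, μ i < 0) :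
    (negPart x).1 μ = toL x μ := by
  change Finsupp.filter _ (toL x) μ = _
  exact Finsupp.filter_apply_pos _ _ hμ

open Classical in
/-- The incidence matrix of a tuple. -/
noncomputable def inc {q : ℕ} (e : Fin q ≃ ι) {p : ℕ} (σ : Fin p → ι) : Matrix (Fin p) (Fin q) k :=
  fun i j => if σ i = e j then 1 else 0

omit [Fintype ι] in
theorem det_inc_eq_zero {q : ℕ} (e : Fin q ≃ ι) (σ : Fin q → ι) (h : Set.range σ ≠ Set.univ) :
    (inc (k := k) e σ).det = 0 := by
  obtain ⟨i, hi⟩ := (Set.ne_univ_iff_exists_notMem _).mp h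
  refine Matrix.det_eq_zero_of_column_eq_zero (e.symm i) fun a => ?_
  rw [inc, if_neg]
  rw [Equiv.apply_symm_apply]
  exact fun h => hi ⟨a, h⟩

omit [Fintype ι] in
theorem det_inc_self {q : ℕ} (e : Fin q ≃ ι) : (inc (k := k) e e).det = 1 := by
  classical
  have : inc (k := k) e e = 1 := by
    ext i j
    rw [inc, Matrix.one_apply]
    simp only [EmbeddingLike.apply_eq_iff_eq]
  rw [this, Matrix.det_one]

omit [Fintype ι] in
/-- The determinants form a cocycle. -/
theorem sum_det_inc {q : ℕ} (e : Fin (q + 1) ≃ ι) (τ : Fin (q + 2) → ι) :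
    ∑ j : Fin (q + 2), (-1 : ℤ) ^ (j : ℕ) • (inc (k := k) e (τ ∘ j.succAbove)).det = 0 := by
  classical
  let A : Matrix (Fin (q + 2)) (Fin (q + 2)) k := fun i => Fin.cons 1 (inc (k := k) e τ i)
  have h1 : A.det = ∑ j : Fin (q + 2), (-1 : ℤ) ^ (j : ℕ) • (inc (k := k) e (τ ∘ j.succAbove)).det := by
    rw [Matrix.det_succ_column_zero]
    refine Finset.sum_congr rfl fun j _ => ?_
    have h2 : A j 0 = 1 := rfl
    have h3 : A.submatrix j.succAbove Fin.succ = inc (k := k) e (τ ∘ j.succAbove) := rfl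
    rw [h2, h3, mul_one, zsmul_eq_mul]
    push_cast
    rfl
  rw [← h1]
  have h4 := A.det_updateCol_sum 0 (Fin.cons 1 (fun _ => -1))
  rw [Fin.cons_zero, one_smul] at h4
  rw [← h4]
  refine Matrix.det_eq_zero_of_column_eq_zero 0 fun i => ?_
  rw [Matrix.updateCol_self, Fin.sum_univ_succ, Fin.cons_zero, one_smul]
  simp only [Fin.cons_succ]
  change (1 : k) + ∑ j : Fin (q + 1), (-1 : k) • (if τ i = e j then (1 : k) else 0) = 0
  rw [Finset.sum_eq_single (e.symm (τ i))]
  · simp
  · intro j _ hj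
    rw [if_neg, smul_zero]
    intro h
    exact hj (by rw [h, Equiv.symm_apply_apply])
  · intro h; exact absurd (Finset.mem_univ _) h

/-- The negative part of a top cocycle at a fixed bijection. -/
noncomputable def topMap (m : ℤ) (q : ℕ) (e : Fin (q + 2) → ι) :
    LinearMap.ker (d (lau k ι m) (q + 1)) →ₗ[k] Lneg k ι m where
  toFun s := negPart (s.1 e)
  map_add' s t := (negPart (k := k) (m := m) (I := Set.range e)).map_add (s.1 e) (t.1 e)
  map_smul' c s := (negPart (k := k) (m := m) (I := Set.range e)).map_smul c (s.1 e)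

theorem topMap_apply (m : ℤ) (q : ℕ) (e : Fin (q + 2) → ι)
    (s : LinearMap.ker (d (lau k ι m) (q + 1))) : topMap m q e s = negPart (s.1 e) := rfl

theorem topMap_surjective (m : ℤ) (q : ℕ) (e : Fin (q + 2) ≃ ι) :
    Function.Surjective (topMap (k := k) m q e) := by
  classical
  intro f
  have hmem : ∀ σ : Fin (q + 2) → ι, (inc (k := k) e σ).det • f.1 ∈ Lsub k m (Set.range σ) := by
    intro σ μ hμ
    have h1 : f.1 μ ≠ 0 := fun h => hμ (by rw [Finsupp.smul_apply, h, smul_zero])
    refine ⟨(f.2 μ h1).1, fun i hi => ?_⟩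
    exfalso
    apply hμ
    rw [Finsupp.smul_apply, det_inc_eq_zero e σ ((Set.ne_univ_iff_exists_notMem _).mpr ⟨i, hi⟩),
      zero_smul]
  let s : C (lau k ι m) (q + 1) := fun σ => ofL ((inc (k := k) e σ).det • f.1) (hmem σ)
  have hs : s ∈ LinearMap.ker (d (lau k ι m) (q + 1)) := by
    rw [LinearMap.mem_ker]
    refine C_ext fun τ => ?_
    rw [toL_d]
    change ∑ j : Fin (q + 3), (-1 : ℤ) ^ (j : ℕ) • ((inc (k := k) e (τ ∘ j.succAbove)).det • f.1)
      = (0 : L ι k)
    simp only [← smul_assoc]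
    rw [← Finset.sum_smul, sum_det_inc, zero_smul]
  refine ⟨⟨s, hs⟩, Subtype.ext ?_⟩
  change Finsupp.filter _ ((inc (k := k) e e).det • f.1) = f.1
  rw [det_inc_self, one_smul, Finsupp.filter_eq_self_iff]
  intro μ hμ
  exact (f.2 μ hμ).2

theorem topMap_eq_zero_iff (m : ℤ) (q : ℕ) (e : Fin (q + 2) ≃ ι)
    (s : LinearMap.ker (d (lau k ι m) (q + 1))) :
    topMap m q e s = 0 ↔ ∃ t : C (lau k ι m) q, d (lau k ι m) q t = s.1 := by
  classical
  have hcard : Fintype.card ι = q + 2 := by
    rw [← Fintype.card_congr e, Fintype.card_fin]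
  constructor
  · intro h
    have h0 : ∀ μ : ι → ℤ, (∀ i, μ i < 0) → toL (s.1 e) μ = 0 := by
      intro μ hμ
      rw [← negPart_apply _ μ hμ]
      have h1 : (negPart (s.1 (e : Fin (q + 2) → ι)) : Lneg k ι m) = 0 := h
      rw [h1]; rfl
    have h1 : ∀ (σ : Fin (q + 2) → ι) (μ : ι → ℤ), (∀ i, μ i < 0) → toL (s.1 σ) μ = 0 := by
      intro σ μ hμ
      by_cases hσ : Function.Surjective σ
      · have hb : Function.Bijective σ := by
          rw [Fintype.bijective_iff_surjective_and_card]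
          exact ⟨hσ, by rw [Fintype.card_fin, hcard]⟩
        let π : Equiv.Perm (Fin (q + 2)) := (Equiv.ofBijective σ hb).trans e.symm
        have h2 : (e : Fin (q + 2) → ι) ∘ π = σ := by
          funext i
          change e (e.symm (σ i)) = σ i
          rw [Equiv.apply_symm_apply]
        have h3 := coeff_perm s.1 s.2 μ hμ π e e.bijective
        have h4 : toL (s.1 ((e : Fin (q + 2) → ι) ∘ π)) = toL (s.1 σ) := by rw [h2]
        rw [h4, h0 μ hμ, smul_zero] at h3
        exact h3
      · exact coeff_eq_zero _ μ hμ (fun h => hσ (Set.range_eq_univ.mp h))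
    -- the homotopy
    have hcoc : ∀ i : Fin (q + 3) → ι,
        ∑ j : Fin (q + 3), (-1 : ℤ) ^ (j : ℕ) • toL (s.1 (i ∘ j.succAbove)) = 0 := by
      intro i
      rw [← toL_d, LinearMap.mem_ker.mp s.2]
      rfl
    refine ⟨fun i => ofL (homotopy (fun σ => toL (s.1 σ)) i)
      (homotopy_mem _ (fun σ => toL_mem (s.1 σ)) i), C_ext fun i => ?_⟩
    rw [toL_d]
    change ∑ j : Fin (q + 2), (-1 : ℤ) ^ (j : ℕ) •
      (homotopy (fun σ => toL (s.1 σ)) (i ∘ j.succAbove)) = toL (s.1 i)
    refine Finsupp.ext fun μ => ?_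
    by_cases h : ∃ k, 0 ≤ μ k
    · have h1 := hcoc (Fin.cons h.choose i)
      rw [Fin.sum_univ_succ] at h1
      have h2 : toL (s.1 ((Fin.cons h.choose i : Fin (q + 3) → ι) ∘ (0 : Fin (q + 3)).succAbove)) =
          toL (s.1 i) := by rw [cons_comp_zero_succAbove]
      have h3 : ∀ j : Fin (q + 2), toL (s.1 ((Fin.cons h.choose i : Fin (q + 3) → ι) ∘
          j.succ.succAbove)) = toL (s.1 (Fin.cons h.choose (i ∘ j.succAbove))) := by
        intro j; rw [cons_comp_succ_succAbove]
      simp only [h2, h3, Fin.val_zero, pow_zero, one_smul, Fin.val_succ,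
        pow_succ', neg_mul, one_mul, neg_smul, Finset.sum_neg_distrib] at h1
      rw [← sub_eq_add_neg, sub_eq_zero] at h1
      rw [h1]
      rw [Finsupp.finsetSum_apply, Finsupp.finsetSum_apply]
      refine Finset.sum_congr rfl fun j _ => ?_
      rw [Finsupp.smul_apply, Finsupp.smul_apply, homotopy_apply, dif_pos h]
    · have h2 : ∀ i, μ i < 0 := by
        intro i
        by_contra hi
        exact h ⟨i, not_lt.mp hi⟩
      rw [h1 i μ h2, Finsupp.finsetSum_apply]
      refine Finset.sum_eq_zero fun j _ => ?_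
      rw [Finsupp.smul_apply, homotopy_apply, dif_neg h, smul_zero]
  · rintro ⟨t, ht⟩
    apply Subtype.ext
    refine Finsupp.ext fun μ => ?_
    change Finsupp.filter _ (toL (s.1 e)) μ = 0
    rw [Finsupp.filter_apply]
    split_ifs with hμ
    · rw [← ht, toL_d, Finsupp.finsetSum_apply]
      refine Finset.sum_eq_zero fun j _ => ?_
      rw [Finsupp.smul_apply, coeff_eq_zero _ μ hμ, smul_zero]
      intro h
      have h5 : Function.Surjective ((e : Fin (q + 2) → ι) ∘ j.succAbove) :=
        Set.range_eq_univ.mp h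
      have h6 := Fintype.card_le_of_surjective _ h5
      rw [Fintype.card_fin, hcard] at h6
      omega
    · rfl

/-- `H^{card ι - 1}(O(m))`: the Laurent polynomials of degree `m` with negative exponents. -/
theorem nonempty_htop_equiv (m : ℤ) (q : ℕ) (hcard : Fintype.card ι = q + 2) :
    Nonempty (H (lau k ι m) (q + 1) ≃ₗ[k] Lneg k ι m) := by
  obtain ⟨e⟩ : Nonempty (Fin (q + 2) ≃ ι) := ⟨(finCongr hcard.symm).trans (Fintype.equivFin ι).symm⟩
  exact nonempty_equiv_of_surjective (lau k ι m) q (W := Lneg k ι m)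
    (topMap m q e) (topMap_surjective m q e) (topMap_eq_zero_iff m q e)

theorem finrank_Htop [Nontrivial k] {q : ℕ} (hcard : Fintype.card ι = q + 2) :
    Module.finrank k (H (lau k ι (-(Fintype.card ι : ℤ))) (q + 1)) = 1 := by
  obtain ⟨e⟩ := nonempty_htop_equiv (k := k) (-(Fintype.card ι : ℤ)) q hcard
  rw [e.finrank_eq, ← Lneg_equiv.finrank_eq]
  exact Module.finrank_self k

end Groth.Agent.Lefpen.H728.LauSys
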