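import Groth.Agent.Lefpen.H728.OcCoh
import Groth.Agent.Lefpen.H722.Hodge
import Groth.Agent.Lefpen.H722.Phi
import Groth.Agent.Lefpen.H278.DegPart

/-!
# The cohomology of `O(m)` for the graded Laurent model of a smooth complete intersection
-/

set_option autoImplicit false
universe u

namespace Groth.Agent.Lefpen.H728.OHypCI

open MvPolynomial Groth.Agent.Lefpen.H722.Sys Groth.Agent.CohqA.LaurentCech
  Groth.Agent.CohqA.LaurentLoc Groth.Agent.Lefpen.H728.LauSys Groth.Agent.Lefpen.H728.OcSys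
  Groth.Agent.Lefpen.H722

section Compare

variable {k : Type u} [Field k] {ι : Type} [Fintype ι] {d : ℕ}
  (G : Fin d → MvPolynomial ι k) (a : Fin d → ℕ) (ha : ∀ j, 1 ≤ a j)
  (hG : ∀ j, (G j).IsHomogeneous (a j)) (hΦ : Ring.HasΦ G a)

/-- An element of the model ring from a section. -/
noncomputable def toAI {m : ℤ} {I : Set ι} (x : (lau k ι m).M I) : Ring.AI k I :=
  ⟨toR x, Ring.mem_AI_of_mem_Lsub (toR_mem x)⟩

/-- From Laurent polynomials of degree `m` to the graded piece. -/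
noncomputable def toGr (m : ℤ) (I : Set ι) : (lau k ι m).M I →ₗ[k] Ring.gr G I m where
  toFun x := ⟨H722.Ring.mk G I (toAI x), Ring.mk_mem_gr G (toR_mem x)⟩
  map_add' x y := Subtype.ext (by
    change H722.Ring.mk G I (toAI (x + y)) = H722.Ring.mk G I (toAI x) + H722.Ring.mk G I (toAI y)
    rw [← map_add]
    rfl)
  map_smul' c x := Subtype.ext (by
    change H722.Ring.mk G I (toAI (c • x)) = c • H722.Ring.mk G I (toAI x)
    rw [← map_smul]
    rfl)

include hG in
theorem toGr_eq_zero_iff (m : ℤ) (I : Set ι) (x : (lau k ι m).M I) :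
    toGr G m I x = 0 ↔ x ∈ J G a d m I := by
  have h1 : toGr G m I x = 0 ↔ H722.Ring.mk G I (toAI x) = 0 :=
    ⟨fun h => congrArg Subtype.val h, fun h => Subtype.ext h⟩
  rw [h1, H278.DegPart.mk_eq_zero_iff_of_mem_grA G hG (toR_mem x), mem_J]
  have h2 : Finset.univ.filter (fun j : Fin d => j.val < d) = Finset.univ := by
    ext j; simp
  rw [h2]
  rfl

theorem toGr_surjective (m : ℤ) (I : Set ι) : Function.Surjective (toGr G m I) := by
  rintro ⟨y, hy⟩
  obtain ⟨x, hx, rfl⟩ := Ring.exists_of_mem_gr G hy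
  exact ⟨ofR x.1 hx, rfl⟩

/-- The comparison of the systems. -/
noncomputable def cmp (m : ℤ) : Hom (Oc G a d m) (GSys.O (Ring.mkG G a ha hG hΦ) m) where
  app I := (J G a d m I).liftQ (toGr G m I)
    (fun x hx => (toGr_eq_zero_iff G a hG m I x).mpr hx)
  nat {I I'} h x := by
    obtain ⟨x, rfl⟩ := (SJ G a d m).cls_surjective x
    rfl

theorem cmp_bijective (m : ℤ) (I : Set ι) : Function.Bijective ((cmp G a ha hG hΦ m).app I) := by
  constructor
  · rw [← LinearMap.ker_eq_bot, LinearMap.ker_eq_bot']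
    intro x hx
    obtain ⟨x, rfl⟩ := (SJ G a d m).cls_surjective x
    have h1 : toGr G m I x = 0 := hx
    exact ((SJ G a d m).cls_eq_zero x).mpr ((toGr_eq_zero_iff G a hG m I x).mp h1)
  · intro y
    obtain ⟨x, hx⟩ := toGr_surjective G m I y
    exact ⟨(SJ G a d m).cls x, hx⟩

theorem nonempty_cmp (m : ℤ) (p : ℕ) :
    Nonempty (H (Oc G a d m) p ≃ₗ[k] H (GSys.O (Ring.mkG G a ha hG hΦ) m) p) :=
  nonempty_equiv_of_bijective (cmp G a ha hG hΦ m) (fun I _ => cmp_bijective G a ha hG hΦ m I) p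

theorem A_eq : Hodge.A (Ring.mkG G a ha hG hΦ) d = OcSys.A a d := by
  have h2 : Finset.univ.filter (fun j : Fin d => j.val < d) = Finset.univ := by
    ext j; simp
  unfold Hodge.A OcSys.A
  rw [h2, Finset.sum_range]
  exact Finset.sum_congr rfl fun j _ => Ring.aZ_apply a j

end Compare

section Main

variable {k : Type u} [Field k] {ι : Type} [Fintype ι] {d : ℕ}
  (G : Fin d → MvPolynomial ι k) (a : Fin d → ℕ) (ha : ∀ j, 1 ≤ a j)
  (hG : ∀ j, (G j).IsHomogeneous (a j)) (hΦ : Ring.HasΦ G a)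
  (hht : (d : ℕ∞) ≤ (Ideal.span (Set.range G)).height)
  {n : ℕ} (hn : 0 < n) (hcard : Fintype.card ι = n + d + 1)

include hht hn hcard

theorem oHyp : Hodge.OHyp (Ring.mkG G a ha hG hΦ) n where
  npos := hn
  card := hcard
  a_pos j hj := by
    have h1 := Ring.aZ_apply a ⟨j, hj⟩
    have h2 := ha ⟨j, hj⟩
    change 1 ≤ Ring.aZ a j
    dsimp only at h1
    rw [h1]
    exact_mod_cast h2
  mid m i hi hin := by
    obtain ⟨e⟩ := nonempty_cmp G a ha hG hΦ m i
    have := subsingleton_mid G a ha hG hht d le_rfl m i hi (by omega)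
    exact e.symm.toEquiv.subsingleton
  low m hm := by
    obtain ⟨e⟩ := nonempty_cmp G a ha hG hΦ m 0
    have := subsingleton_low G a ha hG hht d le_rfl (by omega) m hm
    exact e.symm.toEquiv.subsingleton
  top m hm := by
    obtain ⟨q, rfl⟩ : ∃ q, n = q + 1 := ⟨n - 1, by omega⟩
    obtain ⟨e⟩ := nonempty_cmp G a ha hG hΦ m (q + 1)
    have hm' : Hodge.A (Ring.mkG G a ha hG hΦ) d - ((q + 1 + d + 1 : ℕ) : ℤ) < m := hm
    rw [A_eq] at hm'
    have := subsingleton_top G a ha hG hht d le_rfl q (by omega) m (by rw [hcard]; exact hm')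
    exact e.symm.toEquiv.subsingleton

theorem h0 : Module.finrank k (H (GSys.O (Ring.mkG G a ha hG hΦ) 0) 0) = 1 := by
  obtain ⟨e⟩ := nonempty_cmp G a ha hG hΦ 0 0
  rw [← e.finrank_eq]
  exact finrank_zero G a ha hG hht d le_rfl (by omega)

theorem htop : Module.finrank k (H (GSys.O (Ring.mkG G a ha hG hΦ)
    (Hodge.A (Ring.mkG G a ha hG hΦ) (Ring.mkG G a ha hG hΦ).d - (n + (Ring.mkG G a ha hG hΦ).d + 1 : ℕ))) n) = 1 := by
  obtain ⟨q, rfl⟩ : ∃ q, n = q + 1 := ⟨n - 1, by omega⟩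
  obtain ⟨e⟩ := nonempty_cmp G a ha hG hΦ (Hodge.A (Ring.mkG G a ha hG hΦ) d - (q + 1 + d + 1 : ℕ))
    (q + 1)
  change Module.finrank k (H (GSys.O (Ring.mkG G a ha hG hΦ)
    (Hodge.A (Ring.mkG G a ha hG hΦ) d - (q + 1 + d + 1 : ℕ))) (q + 1)) = 1
  rw [← e.finrank_eq]
  exact finrank_top G a ha hG hht d le_rfl q (by omega) _ (by rw [A_eq, hcard])

end Main

section CI

open AlgebraicGeometry

variable {k : Type u} [Field k] {n d : ℕ} {a : Fin d → ℕ} (ha : ∀ j, 1 ≤ a j)
  (G : ∀ j : Fin d, LefPen.Form (n + d) k (a j))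
  [SmoothOfRelativeDimension n (H718.Chart.yStr G)] (hn : 0 < n)

include hn

/-- The hypotheses of the formal Hodge computation for a smooth complete intersection. -/
theorem oHyp_ciG : Hodge.OHyp (Phi.ciG ha G) n :=
  oHyp (fun j => (G j).1) a ha _ _ (H718.JacCI.le_height_ci (n := n) G rfl) hn
    (by rw [Fintype.card_fin])

theorem h0_ciG : Module.finrank k (H (GSys.O (Phi.ciG ha G) 0) 0) = 1 :=
  h0 (fun j => (G j).1) a ha _ _ (H718.JacCI.le_height_ci (n := n) G rfl) hn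
    (by rw [Fintype.card_fin])

theorem htop_ciG : Module.finrank k (H (GSys.O (Phi.ciG ha G)
    (Hodge.A (Phi.ciG ha G) (Phi.ciG ha G).d - (n + (Phi.ciG ha G).d + 1 : ℕ))) n) = 1 :=
  htop (fun j => (G j).1) a ha _ _ (H718.JacCI.le_height_ci (n := n) G rfl) hn
    (by rw [Fintype.card_fin])

end CI

end Groth.Agent.Lefpen.H728.OHypCI
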