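import Groth.Agent.Lefpen.H728.OcSys
import Groth.Agent.Lefpen.H728.Cls

/-!
# Cohomology of `O(m)` on complete intersections

For forms `G_0, …, G_{d-1}` in `N + 1 = card ι` variables generating an ideal of height `d`, the Čech cohomology
of the systems `Oc G a c m`.
-/

set_option autoImplicit false
universe u

namespace Groth.Agent.Lefpen.H728.OcSys

open MvPolynomial Groth.Agent.Lefpen.H722.Sys Groth.Agent.CohqA.LaurentCech
  Groth.Agent.CohqA.LaurentLoc Groth.Agent.Lefpen.H728.LauSys Groth.Agent.Lefpen.H728.Cls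
  CategoryTheory

section General

variable {k : Type u} [CommRing k] {ι : Type} {V W : Sys k ι}

theorem mapH_bijective (f : Hom V W) (h : ∀ I : Set ι, I.Nonempty → Function.Bijective (f.app I))
    (p : ℕ) : Function.Bijective (mapH f p) := by
  have : IsIso (cxMap f) := by
    have : ∀ q, IsIso ((cxMap f).f q) := fun q => by
      rw [cxMap_f]
      refine (ConcreteCategory.isIso_iff_bijective _).2 ⟨?_, ?_⟩
      · intro s t hst
        funext σ
        exact (h _ (Set.range_nonempty σ)).1 (congrFun hst σ)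
      · intro t
        choose s hs using fun σ => (h _ (Set.range_nonempty σ)).2 ((show C W q from t) σ)
        exact ⟨(show C V q from s), funext hs⟩
    exact HomologicalComplex.Hom.isIso_of_components _
  exact (ConcreteCategory.isIso_iff_bijective (HomologicalComplex.homologyMap (cxMap f) p)).1
    inferInstance

end General

variable {k : Type u} [Field k] {ι : Type} [Fintype ι] {d : ℕ}
  (G : Fin d → MvPolynomial ι k) (a : Fin d → ℕ)

/-- The sum of the first `c` degrees. -/
def A (c : ℕ) : ℤ := ∑ j ∈ Finset.univ.filter (fun j : Fin d => j.val < c), (a j : ℤ)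

theorem A_zero : A a 0 = 0 := by
  unfold A
  rw [Finset.sum_eq_zero]
  intro j hj
  exact absurd (Finset.mem_filter.mp hj).2 (Nat.not_lt_zero _)

theorem A_succ (c : Fin d) : A a (c.val + 1) = A a c.val + a c := by
  classical
  unfold A
  have : Finset.univ.filter (fun j : Fin d => j.val < c.val + 1) =
      insert c (Finset.univ.filter (fun j : Fin d => j.val < c.val)) := by
    ext j
    simp only [Finset.mem_filter, Finset.mem_univ, true_and, Finset.mem_insert, Fin.ext_iff]
    omega
  rw [this, Finset.sum_insert, add_comm]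
  simp

/-- The isomorphism of `lau` and `Oc 0`. -/
noncomputable def baseHom (m : ℤ) : Hom (lau k ι m) (Oc G a 0 m) where
  app _ := (SJ G a 0 m).cls
  nat _ _ := rfl

theorem baseHom_bijective (m : ℤ) (I : Set ι) : Function.Bijective ((baseHom G a m).app I) := by
  constructor
  · rw [← LinearMap.ker_eq_bot, LinearMap.ker_eq_bot']
    intro x hx
    have h1 : (SJ G a 0 m).cls x = 0 := hx
    rw [SubSys.cls_eq_zero] at h1
    obtain ⟨h, _, h2⟩ := h1
    apply toR_injective
    rw [h2, map_zero]
    refine Finset.sum_eq_zero fun j hj => ?_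
    exact absurd (Finset.mem_filter.mp hj).2 (Nat.not_lt_zero _)
  · exact (SJ G a 0 m).cls_surjective

theorem nonempty_base_equiv (m : ℤ) (p : ℕ) :
    Nonempty (H (lau k ι m) p ≃ₗ[k] H (Oc G a 0 m) p) :=
  nonempty_equiv_of_bijective (baseHom G a m) (fun I _ => baseHom_bijective G a m I) p

section Main

variable (ha : ∀ j, 1 ≤ a j) (hG : ∀ j, (G j).IsHomogeneous (a j))
  (hht : (d : ℕ∞) ≤ (Ideal.span (Set.range G)).height)

include ha hG hht

/-- `H^i(O(m)) = 0` for `0 < i < N - c`. -/
theorem subsingleton_mid (c : ℕ) (hc : c ≤ d) : ∀ (m : ℤ) (i : ℕ), 0 < i →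
    i + c + 1 < Fintype.card ι → Subsingleton (H (Oc G a c m) i) := by
  induction c with
  | zero =>
    intro m i hi hic
    obtain ⟨e⟩ := nonempty_base_equiv G a m i
    obtain ⟨i, rfl⟩ : ∃ j, i = j + 1 := ⟨i - 1, by omega⟩
    have := subsingleton_H (k := k) (ι := ι) (m := m) (p := i) (Or.inr (by omega))
    exact e.symm.toEquiv.subsingleton
  | succ c ih =>
    intro m i hi hic
    exact subsingleton_right (isSES G a ha hG hht ⟨c, hc⟩ (m - a ⟨c, hc⟩) m (by ring)) i
      (ih (by omega) m i hi (by omega)) (ih (by omega) _ (i + 1) (by omega) (by omega))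

/-- `H^0(O(m)) = 0` for `m < 0`. -/
theorem subsingleton_low (c : ℕ) (hc : c ≤ d) (hcard : c + 2 ≤ Fintype.card ι) (m : ℤ)
    (hm : m < 0) : Subsingleton (H (Oc G a c m) 0) := by
  induction c with
  | zero =>
    obtain ⟨e⟩ := nonempty_base_equiv G a m 0
    have := subsingleton_H0 (k := k) (ι := ι) (m := m) (by omega) hm
    exact e.symm.toEquiv.subsingleton
  | succ c ih =>
    exact subsingleton_right (isSES G a ha hG hht ⟨c, hc⟩ (m - a ⟨c, hc⟩) m (by ring)) 0
      (ih (by omega) (by omega)) (subsingleton_mid G a ha hG hht c (by omega) _ 1 (by omega)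
        (by omega))

/-- `H^0(O) = k`. -/
theorem finrank_zero (c : ℕ) (hc : c ≤ d) (hcard : c + 2 ≤ Fintype.card ι) :
    Module.finrank k (H (Oc G a c 0) 0) = 1 := by
  induction c with
  | zero =>
    obtain ⟨e⟩ := nonempty_base_equiv G a 0 0
    rw [← e.finrank_eq]
    exact finrank_H0 (by omega)
  | succ c ih =>
    obtain ⟨e⟩ := nonempty_equiv_right (isSES G a ha hG hht ⟨c, hc⟩ (0 - a ⟨c, hc⟩) 0 (by ring)) 0
      (subsingleton_low G a ha hG hht c (by omega) (by omega) _ (by have := ha ⟨c, hc⟩; omega))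
      (subsingleton_mid G a ha hG hht c (by omega) _ 1 (by omega) (by omega))
    exact e.finrank_eq.symm.trans (ih (by omega) (by omega))

/-- `H^{N-c}(O(m)) = 0` for `m > w_c`. -/
theorem subsingleton_top (c : ℕ) (hc : c ≤ d) : ∀ (q : ℕ) (_ : q + c + 2 = Fintype.card ι) (m : ℤ),
    A a c - Fintype.card ι < m → Subsingleton (H (Oc G a c m) (q + 1)) := by
  induction c with
  | zero =>
    intro q hq m hm
    obtain ⟨e⟩ := nonempty_base_equiv G a m (q + 1)
    rw [A_zero] at hm
    have := subsingleton_H (k := k) (ι := ι) (m := m) (p := q) (Or.inl (by omega))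
    exact e.symm.toEquiv.subsingleton
  | succ c ih =>
    intro q hq m hm
    rw [A_succ a ⟨c, hc⟩] at hm
    exact subsingleton_right (isSES G a ha hG hht ⟨c, hc⟩ (m - a ⟨c, hc⟩) m (by ring)) (q + 1)
      (subsingleton_mid G a ha hG hht c (by omega) m (q + 1) (by omega) (by omega))
      (ih (by omega) (q + 1) (by omega) _ (by dsimp only at hm; omega))

/-- `H^{N-c}(O(w_c)) = k`. -/
theorem finrank_top (c : ℕ) (hc : c ≤ d) : ∀ (q : ℕ) (_ : q + c + 2 = Fintype.card ι) (m : ℤ),
    m = A a c - Fintype.card ι → Module.finrank k (H (Oc G a c m) (q + 1)) = 1 := by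
  induction c with
  | zero =>
    intro q hq m hm
    obtain ⟨e⟩ := nonempty_base_equiv G a m (q + 1)
    rw [A_zero, zero_sub] at hm
    subst hm
    rw [← e.finrank_eq]
    exact finrank_Htop (by omega)
  | succ c ih =>
    intro q hq m hm
    rw [A_succ a ⟨c, hc⟩] at hm
    have hac := ha ⟨c, hc⟩
    obtain ⟨e⟩ := nonempty_equiv_δ (isSES G a ha hG hht ⟨c, hc⟩ (m - a ⟨c, hc⟩) m (by ring)) (q + 1)
      (subsingleton_mid G a ha hG hht c (by omega) m (q + 1) (by omega) (by omega))
      (subsingleton_top G a ha hG hht c (by omega) (q + 1) (by omega) m (by dsimp only at hm; omega))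
    rw [e.finrank_eq]
    exact ih (by omega) (q + 1) (by omega) _ (by dsimp only at hm; omega)

end Main

end Groth.Agent.Lefpen.H728.OcSys
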