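import Groth.Agent.Lefpen.H728.OcCoh
import Mathlib.Data.Finsupp.Weight

/-!
# The residue embedding of the middle cohomology and the socle lemma

`exists_residue`: an injection, compatible with multiplication by forms, of `H^{N-c}(Oc G a c m)` into the Laurent polynomials
of degree `m - A c` with all exponents negative; `socle`: a class killed by all monomials of degree `b` vanishes if
its degree is `≤ w_c - b`.
-/

set_option autoImplicit false
universe u

namespace Groth.Agent.Lefpen.H728.OcSys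

open MvPolynomial Groth.Agent.Lefpen.H722.Sys Groth.Agent.CohqA.LaurentCech
  Groth.Agent.CohqA.LaurentLoc Groth.Agent.Lefpen.H728.LauSys Groth.Agent.Lefpen.H728.Cls
  CategoryTheory

theorem exists_desc {k A B C : Type*} [CommRing k] [AddCommGroup A] [AddCommGroup B] [AddCommGroup C]
    [Module k A] [Module k B] [Module k C] (p : A →ₗ[k] B) (hp : Function.Surjective p)
    (f : A →ₗ[k] C) (h : ∀ x, p x = 0 → f x = 0) : ∃ g : B →ₗ[k] C, ∀ x, g (p x) = f x := by
  refine ⟨((LinearMap.ker p).liftQ f (fun x hx => h x hx)) ∘ₗ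
    (p.quotKerEquivOfSurjective hp).symm.toLinearMap, fun x => ?_⟩
  have h1 : (p.quotKerEquivOfSurjective hp).symm (p x) = Submodule.Quotient.mk x := by
    rw [LinearEquiv.symm_apply_eq]
    rfl
  rw [LinearMap.comp_apply, LinearEquiv.coe_coe, h1]
  rfl

section Neg

variable {k : Type u} [CommRing k] {ι : Type}

open Classical in
/-- The negative part of a Laurent polynomial. -/
noncomputable def negR : LR ι k →ₗ[k] LR ι k where
  toFun x := AddMonoidAlgebra.ofCoeff (x.coeff.filter (fun μ => ∀ i, μ i < 0))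
  map_add' x y := by
    change AddMonoidAlgebra.ofCoeff (Finsupp.filter _ (x.coeff + y.coeff)) = _
    rw [Finsupp.filter_add]
    rfl
  map_smul' c x := by
    change AddMonoidAlgebra.ofCoeff (Finsupp.filter _ (c • x.coeff)) = _
    rw [Finsupp.filter_smul]
    rfl

open Classical in
theorem coeff_negR (x : LR ι k) (μ : ι → ℤ) :
    (negR x).coeff μ = if ∀ i, μ i < 0 then x.coeff μ else 0 := Finsupp.filter_apply _ _ _

theorem coeff_negR_of_neg (x : LR ι k) (μ : ι → ℤ) (hμ : ∀ i, μ i < 0) :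
    (negR x).coeff μ = x.coeff μ := by
  rw [coeff_negR, if_pos hμ]

theorem negR_eq_zero_iff (x : LR ι k) : negR x = 0 ↔ ∀ μ : ι → ℤ, (∀ i, μ i < 0) → x.coeff μ = 0 := by
  constructor
  · intro h μ hμ
    rw [← coeff_negR_of_neg x μ hμ, h]
    rfl
  · intro h
    apply AddMonoidAlgebra.coeff_injective
    ext μ
    rw [coeff_negR]
    split_ifs with hμ
    · rw [h μ hμ]; rfl
    · rfl

theorem coeff_monomial_mul (c : ι →₀ ℕ) (r : k) (x : LR ι k) (μ : ι → ℤ) :
    (toLaurent (monomial c r) * x).coeff μ = r * x.coeff (μ - castExp c) := by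
  have h1 : (monomial c r : MvPolynomial ι k) = C r * monomial c 1 := by
    rw [C_mul_monomial, mul_one]
  have h2 : toLaurent (C r : MvPolynomial ι k) = r • (1 : LR ι k) := by
    have : (C r : MvPolynomial ι k) = monomial 0 r := rfl
    rw [this, toLaurent_monomial]
    have h3 : (castExp (0 : ι →₀ ℕ) : ι → ℤ) = 0 := by
      funext i; simp
    rw [h3, AddMonoidAlgebra.one_def, AddMonoidAlgebra.smul_single, smul_eq_mul, mul_one]
  rw [h1, map_mul, h2, smul_mul_assoc, one_mul, toLaurent_monomial, smul_mul_assoc, mul_comm]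
  change r * (x * AddMonoidAlgebra.single (castExp c) 1).coeff μ = _
  rw [coeff_mul_single_one]

theorem negR_mul_eq_zero (F : MvPolynomial ι k) (x : LR ι k) (hx : negR x = 0) :
    negR (toLaurent F * x) = 0 := by
  induction F using MvPolynomial.induction_on' with
  | monomial c r =>
    rw [negR_eq_zero_iff] at hx ⊢
    intro μ hμ
    rw [coeff_monomial_mul, hx, mul_zero]
    intro i
    have := hμ i
    simp only [Pi.sub_apply, castExp_apply]
    omega
  | add p q hp hq => rw [map_add, add_mul, map_add, hp, hq, add_zero]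

theorem negR_negR (x : LR ι k) : negR (negR x) = negR x := by
  apply AddMonoidAlgebra.coeff_injective
  ext μ
  rw [coeff_negR, coeff_negR]
  split_ifs <;> rfl

theorem negR_mul (F : MvPolynomial ι k) (x : LR ι k) :
    negR (toLaurent F * x) = negR (toLaurent F * negR x) := by
  have h1 : negR (toLaurent F * (x - negR x)) = 0 :=
    negR_mul_eq_zero F _ (by rw [map_sub, negR_negR, sub_self])
  rw [mul_sub, map_sub, sub_eq_zero] at h1
  exact h1

end Neg

variable {k : Type u} [Field k] {ι : Type} [Fintype ι]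

theorem toR_negPart {m : ℤ} {I : Set ι} (x : (lau k ι m).M I) :
    AddMonoidAlgebra.ofCoeff (negPart x).1 = negR (toR x) := by
  apply AddMonoidAlgebra.coeff_injective
  ext μ
  change (negPart x).1 μ = _
  rw [coeff_negR]
  split_ifs with h
  · exact negPart_apply x μ h
  · by_contra hne
    exact h ((negPart x).2 μ hne).2

/-- The residue for `O(m)` on projective space. -/
theorem exists_residue_lau (q : ℕ) (hq : q + 2 = Fintype.card ι) :
    ∃ ρ : ∀ m : ℤ, H (lau k ι m) (q + 1) →ₗ[k] LR ι k, (∀ m, Function.Injective (ρ m)) ∧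
      (∀ m z, (ρ m z).coeff ∈ Lneg k ι m) ∧
      (∀ (m : ℤ) (f : LR ι k), f.coeff ∈ Lneg k ι m → ∃ z, ρ m z = f) ∧
      (∀ (F : MvPolynomial ι k) (b : ℕ) (hF : F.IsHomogeneous b) (m m' : ℤ) (hm : m' = m + b) z,
        ρ m' (mapH (mulHom F b hF m m' hm) (q + 1) z) = negR (toLaurent F * ρ m z)) := by
  obtain ⟨e⟩ : Nonempty (Fin (q + 2) ≃ ι) := ⟨(finCongr hq).trans (Fintype.equivFin ι).symm⟩
  have h1 : ∀ m : ℤ, ∃ ρ : H (lau k ι m) (q + 1) →ₗ[k] Lneg k ι m,
      ∀ s, ρ (cls (lau k ι m) (q + 1) s) = topMap m q e s := fun m =>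
    exists_desc (C := Lneg k ι m) (cls (lau k ι m) (q + 1)) (cls_surjective _ _) (topMap m q e) (fun s hs => by
      rw [topMap_eq_zero_iff, ← cls_eq_zero_iff]
      exact hs)
  choose ρ hρ using h1
  let θ : ∀ m : ℤ, Lneg k ι m →ₗ[k] LR ι k := fun m =>
    { toFun := fun x => AddMonoidAlgebra.ofCoeff x.1
      map_add' := fun _ _ => rfl
      map_smul' := fun _ _ => rfl }
  have hθ : ∀ m (x : Lneg k ι m), (θ m x).coeff = x.1 := fun _ _ => rfl
  refine ⟨fun m => θ m ∘ₗ ρ m, ?_, ?_, ?_, ?_⟩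
  · intro m
    rw [← LinearMap.ker_eq_bot, LinearMap.ker_eq_bot']
    intro z hz
    obtain ⟨s, rfl⟩ := cls_surjective _ _ z
    rw [cls_eq_zero_iff, ← topMap_eq_zero_iff m q e, ← hρ]
    exact Subtype.ext (congrArg AddMonoidAlgebra.coeff hz)
  · intro m z
    exact (ρ m z).2
  · intro m f hf
    obtain ⟨s, hs⟩ := topMap_surjective (k := k) m q e ⟨f.coeff, hf⟩
    refine ⟨cls _ _ s, ?_⟩
    change θ m (ρ m (cls _ _ s)) = f
    rw [hρ, hs]
    rfl
  · intro F b hF m m' hm z
    obtain ⟨s, rfl⟩ := cls_surjective _ _ z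
    rw [mapH_cls]
    change θ m' (ρ m' _) = negR (toLaurent F * θ m (ρ m _))
    rw [hρ, hρ, topMap_apply, topMap_apply]
    change AddMonoidAlgebra.ofCoeff (negPart ((mulHom F b hF m m' hm).app _ (s.1 e))).1 =
      negR (toLaurent F * AddMonoidAlgebra.ofCoeff (negPart (s.1 e)).1)
    rw [toR_negPart, toR_negPart, toR_mulHom, negR_mul]

variable {d : ℕ} (G : Fin d → MvPolynomial ι k) (a : Fin d → ℕ)

theorem mulOc_app (F : MvPolynomial ι k) (b : ℕ) (hF : F.IsHomogeneous b) (c : ℕ) (m m' : ℤ)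
    (hm : m' = m + b) {I : Set ι} (x : (lau k ι m).M I) :
    (mulOc G a F b hF c m m' hm).app I ((SJ G a c m).cls x) =
      (SJ G a c m').cls ((mulHom F b hF m m' hm).app I x) := rfl

theorem mulOc_comm (F F' : MvPolynomial ι k) (b b' : ℕ) (hF : F.IsHomogeneous b)
    (hF' : F'.IsHomogeneous b') (c : ℕ) (m m₁ m₂ m' : ℤ) (h1 : m₁ = m + b) (h2 : m₂ = m + b')
    (h3 : m' = m₁ + b') (h4 : m' = m₂ + b) {I : Set ι} (x : (Oc G a c m).M I) :
    (mulOc G a F' b' hF' c m₁ m' h3).app I ((mulOc G a F b hF c m m₁ h1).app I x) =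
      (mulOc G a F b hF c m₂ m' h4).app I ((mulOc G a F' b' hF' c m m₂ h2).app I x) := by
  obtain ⟨x, rfl⟩ := (SJ G a c m).cls_surjective x
  have h5 : (mulHom F' b' hF' m₁ m' h3).app I ((mulHom F b hF m m₁ h1).app I x) =
      (mulHom F b hF m₂ m' h4).app I ((mulHom F' b' hF' m m₂ h2).app I x) := by
    apply toR_injective
    rw [toR_mulHom, toR_mulHom, toR_mulHom, toR_mulHom, mul_left_comm]
  exact congrArg (SJ G a c m').cls h5

section Main

variable (ha : ∀ j, 1 ≤ a j) (hG : ∀ j, (G j).IsHomogeneous (a j))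
  (hht : (d : ℕ∞) ≤ (Ideal.span (Set.range G)).height)

include ha hG hht

/-- The connecting map. -/
noncomputable def deltaOc (c : Fin d) (m' m : ℤ) (hm : m = m' + a c) (q : ℕ) :
    H (Oc G a (c.val + 1) m) q →ₗ[k] H (Oc G a c.val m') (q + 1) :=
  delta (isSES G a ha hG hht c m' m hm) q

theorem deltaOc_injective (c : Fin d) (m' m : ℤ) (hm : m = m' + a c) (q : ℕ)
    (hs : Subsingleton (H (Oc G a c.val m) q)) :
    Function.Injective (deltaOc G a ha hG hht c m' m hm q) :=
  delta_injective _ _ hs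

/-- Naturality of the connecting maps for multiplication by forms. -/
theorem deltaOc_mul (c : Fin d) (F : MvPolynomial ι k) (b : ℕ) (hF : F.IsHomogeneous b)
    (m' m n' n : ℤ) (hm : m = m' + a c) (hn : n = n' + a c) (h : n = m + b) (h' : n' = m' + b)
    (i : ℕ) (z : H (Oc G a (c.val + 1) m) i) :
    mapH (mulOc G a F b hF c.val m' n' h') (i + 1) (deltaOc G a ha hG hht c m' m hm i z) =
      deltaOc G a ha hG hht c n' n hn i (mapH (mulOc G a F b hF (c.val + 1) m n h) i z) := by
  refine delta_natural (isSES G a ha hG hht c m' m hm) (isSES G a ha hG hht c n' n hn)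
    (mulOc G a F b hF c.val m' n' h') (mulOc G a F b hF c.val m n h)
    (mulOc G a F b hF (c.val + 1) m n h) ?_ ?_ i z
  · intro I x
    exact mulOc_comm G a (G c) F (a c) b (hG c) hF c.val m' m n' n hm h' h hn x
  · intro I x
    obtain ⟨x, rfl⟩ := (SJ G a c.val m).cls_surjective x
    rfl

omit ha hG hht in
/-- Existence of a residue embedding. -/
def HasRes (c q : ℕ) : Prop :=
  ∃ ρ : ∀ m : ℤ, H (Oc G a c m) (q + 1) →ₗ[k] LR ι k, (∀ m, Function.Injective (ρ m)) ∧
    (∀ m z, (ρ m z).coeff ∈ Lneg k ι (m - A a c)) ∧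
    (∀ (F : MvPolynomial ι k) (b : ℕ) (hF : F.IsHomogeneous b) (m m' : ℤ) (hm : m' = m + b) z,
      ρ m' (mapH (mulOc G a F b hF c m m' hm) (q + 1) z) = negR (toLaurent F * ρ m z))

omit ha hG hht in
theorem hasRes_zero (q : ℕ) (hq : q + 2 = Fintype.card ι) : HasRes G a 0 q := by
  obtain ⟨ρ, h1, h2, -, h3⟩ := exists_residue_lau (k := k) (ι := ι) q (by omega)
  let E : ∀ m : ℤ, H (lau k ι m) (q + 1) ≃ₗ[k] H (Oc G a 0 m) (q + 1) := fun m =>
    LinearEquiv.ofBijective (mapH (baseHom G a m) (q + 1))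
      (mapH_bijective _ (fun I _ => baseHom_bijective G a m I) _)
  refine ⟨fun m => ρ m ∘ₗ (E m).symm.toLinearMap, fun m => (h1 m).comp (E m).symm.injective,
    fun m z => ?_, fun F b hF m m' hm z => ?_⟩
  · rw [A_zero, sub_zero]
    exact h2 m _
  · obtain ⟨z, rfl⟩ := (E m).surjective z
    have h4 : mapH (mulOc G a F b hF 0 m m' hm) (q + 1) (E m z) =
        E m' (mapH (mulHom F b hF m m' hm) (q + 1) z) := by
      change mapH _ _ (mapH _ _ z) = mapH _ _ (mapH _ _ z)
      rw [← mapH_comp (baseHom G a m) (mulOc G a F b hF 0 m m' hm)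
          (compHom (baseHom G a m) (mulOc G a F b hF 0 m m' hm)) (fun _ _ => rfl),
        ← mapH_comp (mulHom F b hF m m' hm) (baseHom G a m')
          (compHom (baseHom G a m) (mulOc G a F b hF 0 m m' hm)) (fun _ _ => rfl)]
    rw [h4]
    change ρ m' ((E m').symm (E m' _)) = negR (toLaurent F * ρ m ((E m).symm (E m z)))
    rw [LinearEquiv.symm_apply_apply, LinearEquiv.symm_apply_apply]
    exact h3 F b hF m m' hm z

theorem hasRes_succ (c : Fin d) (q : ℕ) (hq : q + c.val + 3 = Fintype.card ι)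
    (ih : HasRes G a c.val (q + 1)) : HasRes G a (c.val + 1) q := by
  obtain ⟨ρ, h1, h2, h3⟩ := ih
  have hs : ∀ m : ℤ, m = m - a c + a c := fun m => by ring
  refine ⟨fun m => LinearMap.comp (ρ (m - a c))
    (deltaOc G a ha hG hht c (m - a c) m (hs m) (q + 1)),
    fun m => ?_, fun m z => ?_, fun F b hF m m' hm z => ?_⟩
  · exact (h1 (m - a c)).comp (deltaOc_injective G a ha hG hht c (m - a c) m (hs m) (q + 1)
      (subsingleton_mid G a ha hG hht c.val (by omega) m (q + 1) (by omega) (by omega)))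
  · rw [A_succ a c]
    have := h2 (m - a c) (deltaOc G a ha hG hht c (m - a c) m (hs m) (q + 1) z)
    rwa [show m - a c - A a c.val = m - (A a c.val + a c) by ring] at this
  · have h4 := deltaOc_mul G a ha hG hht c F b hF (m - a c) m (m' - a c) m' (hs m) (hs m') hm
      (by rw [hm]; ring) (q + 1) z
    have h5 := h3 F b hF (m - a c) (m' - a c) (by rw [hm]; ring)
      (deltaOc G a ha hG hht c (m - a c) m (hs m) (q + 1) z)
    rw [LinearMap.comp_apply, LinearMap.comp_apply, ← h4]
    exact h5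

/-- The residue embedding of `H^{N-c}(O(m))`, `q + 1 = N - c`. -/
theorem exists_residue (c : ℕ) (hc : c ≤ d) : ∀ (q : ℕ), q + c + 2 = Fintype.card ι →
    HasRes G a c q := by
  induction c with
  | zero => exact fun q hq => hasRes_zero G a q (by omega)
  | succ c ih =>
    exact fun q hq => hasRes_succ G a ha hG hht ⟨c, hc⟩ q (by dsimp only; omega)
      (ih (by omega) (q + 1) (by omega))

/-- **The socle lemma.** -/
theorem socle (c : ℕ) (hc : c ≤ d) (q : ℕ) (hq : q + c + 2 = Fintype.card ι) (m m' : ℤ) (b : ℕ)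
    (hm : m' = m + b) (hm' : m' ≤ A a c - Fintype.card ι) (z : H (Oc G a c m) (q + 1))
    (hz : ∀ μ : ι →₀ ℕ, ∀ hμ : (monomial μ (1 : k)).IsHomogeneous b,
      mapH (mulOc G a (monomial μ 1) b hμ c m m' hm) (q + 1) z = 0) : z = 0 := by
  obtain ⟨ρ, h1, h2, h3⟩ := exists_residue G a ha hG hht c hc q hq
  apply h1 m
  rw [map_zero]
  apply AddMonoidAlgebra.coeff_injective
  ext ν
  change (ρ m z).coeff ν = 0
  by_contra hne
  obtain ⟨h4, h5⟩ := h2 m z ν hne
  -- a monomial of degree `b` below `-1 - ν`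
  let κ : ι →₀ ℕ := Finsupp.equivFunOnFinite.symm fun i => (-1 - ν i).toNat
  have hκ : ∀ i, (κ i : ℤ) = -1 - ν i := fun i => by
    have := h5 i
    simp only [κ, Finsupp.equivFunOnFinite_symm_apply_apply]
    omega
  have hκd : b ≤ κ.degree := by
    have h6 : (κ.degree : ℤ) = ∑ i, (-1 - ν i) := by
      rw [Finsupp.degree_eq_sum]
      push_cast
      exact Finset.sum_congr rfl fun i _ => hκ i
    rw [Finset.sum_sub_distrib, h4] at h6
    simp only [Finset.sum_const, Finset.card_univ, smul_neg, nsmul_eq_mul, mul_one] at h6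
    omega
  obtain ⟨μ, hμκ, hμb⟩ := Finsupp.exists_le_degree_eq κ b hκd
  have hμ : (monomial μ (1 : k)).IsHomogeneous b := isHomogeneous_monomial _ hμb
  have h6 := h3 (monomial μ 1) b hμ m m' hm z
  rw [hz μ hμ, map_zero] at h6
  have h7 := (negR_eq_zero_iff _).mp h6.symm (ν + castExp μ) (fun i => by
    have h8 := hκ i
    have h9 : μ i ≤ κ i := hμκ i
    simp only [Pi.add_apply, castExp_apply]
    omega)
  rw [coeff_monomial_mul, one_mul, add_sub_cancel_right] at h7
  exact hne h7

end Main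

end Groth.Agent.Lefpen.H728.OcSys
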