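import Groth.Agent.Lefpen.H728.LauTop
import Groth.Agent.Lefpen.H728.LaurReg

/-!
# The Čech systems of `O(m)` on complete intersections

`Oc G a c m` is the system `I ↦ Lsub k m I / ∑_{j<c} G_j Lsub k (m - a_j) I`.
-/

set_option autoImplicit false
universe u

namespace Groth.Agent.Lefpen.H728.OcSys

open MvPolynomial Groth.Agent.Lefpen.H722.Sys Groth.Agent.CohqA.LaurentCech
  Groth.Agent.CohqA.LaurentLoc Groth.Agent.Lefpen.H728.LauSys CategoryTheory

section Quot

variable {k : Type u} [CommRing k] {ι : Type}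

/-- A family of submodules stable under restriction. -/
structure SubSys (V : Sys k ι) where
  /-- the submodules -/
  P : ∀ I, Submodule k (V.M I)
  stable : ∀ {I J : Set ι} (h : I ⊆ J) (x : V.M I), x ∈ P I → V.res h x ∈ P J

/-- The quotient system. -/
def SubSys.quot {V : Sys k ι} (S : SubSys V) : Sys k ι where
  M I := V.M I ⧸ S.P I
  res {I J} h := (S.P I).mapQ (S.P J) (V.res h) (fun x hx => S.stable h x hx)
  res_res {I J K} h h' x := by
    obtain ⟨x, rfl⟩ := Submodule.Quotient.mk_surjective _ x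
    change Submodule.Quotient.mk (V.res h' (V.res h x)) = Submodule.Quotient.mk (V.res _ x)
    rw [V.res_res]

/-- The class of an element. -/
def SubSys.cls {V : Sys k ι} (S : SubSys V) {I : Set ι} : V.M I →ₗ[k] S.quot.M I := (S.P I).mkQ

theorem SubSys.cls_surjective {V : Sys k ι} (S : SubSys V) {I : Set ι} :
    Function.Surjective (S.cls : V.M I →ₗ[k] S.quot.M I) := (S.P I).mkQ_surjective

theorem SubSys.cls_eq_zero {V : Sys k ι} (S : SubSys V) {I : Set ι} (x : V.M I) :
    S.cls x = 0 ↔ x ∈ S.P I := Submodule.Quotient.mk_eq_zero _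

theorem SubSys.cls_eq_cls {V : Sys k ι} (S : SubSys V) {I : Set ι} (x y : V.M I) :
    S.cls x = S.cls y ↔ x - y ∈ S.P I := Submodule.Quotient.eq _

theorem SubSys.res_cls {V : Sys k ι} (S : SubSys V) {I J : Set ι} (h : I ⊆ J) (x : V.M I) :
    S.quot.res h (S.cls x) = S.cls (V.res h x) := rfl

/-- Morphisms of quotient systems. -/
def SubSys.map {V W : Sys k ι} (S : SubSys V) (T : SubSys W) (f : Hom V W)
    (hf : ∀ (I : Set ι) (x : V.M I), x ∈ S.P I → f.app I x ∈ T.P I) : Hom S.quot T.quot where
  app I := (S.P I).mapQ (T.P I) (f.app I) (hf I)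
  nat {I J} h x := by
    obtain ⟨x, rfl⟩ := Submodule.Quotient.mk_surjective _ x
    change Submodule.Quotient.mk (f.app J (V.res h x)) = Submodule.Quotient.mk (W.res h (f.app I x))
    rw [f.nat]

theorem SubSys.map_cls {V W : Sys k ι} (S : SubSys V) (T : SubSys W) (f : Hom V W)
    (hf : ∀ (I : Set ι) (x : V.M I), x ∈ S.P I → f.app I x ∈ T.P I) {I : Set ι} (x : V.M I) :
    (S.map T f hf).app I (S.cls x) = T.cls (f.app I x) := rfl

/-- The identity morphism. -/
def idHom (V : Sys k ι) : Hom V V where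
  app _ := LinearMap.id
  nat _ _ := rfl

/-- Composition of morphisms. -/
def compHom {U V W : Sys k ι} (f : Hom U V) (g : Hom V W) : Hom U W where
  app I := g.app I ∘ₗ f.app I
  nat h x := by
    rw [LinearMap.comp_apply, LinearMap.comp_apply, f.nat, g.nat]

end Quot

section Mul

variable {k : Type u} [Field k] {ι : Type} [Fintype ι]

/-- The underlying element of the Laurent polynomial ring. -/
noncomputable def toR {m : ℤ} {I : Set ι} : (lau k ι m).M I →ₗ[k] LR ι k where
  toFun x := AddMonoidAlgebra.ofCoeff (toL x)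
  map_add' x y := by rw [map_add]; rfl
  map_smul' c x := by rw [map_smul]; rfl

theorem toR_mem {m : ℤ} {I : Set ι} (x : (lau k ι m).M I) : (toR x).coeff ∈ Lsub k m I := toL_mem x

theorem toR_injective {m : ℤ} {I : Set ι} :
    Function.Injective (toR : (lau k ι m).M I →ₗ[k] LR ι k) := fun _ _ h =>
  toL_injective (AddMonoidAlgebra.ofCoeff_injective h)

/-- Sections from Laurent polynomials. -/
def ofR {m : ℤ} {I : Set ι} (x : LR ι k) (hx : x.coeff ∈ Lsub k m I) : (lau k ι m).M I :=
  ofL x.coeff hx

theorem toR_ofR {m : ℤ} {I : Set ι} (x : LR ι k) (hx : x.coeff ∈ Lsub k m I) :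
    toR (ofR x hx) = x := rfl

theorem ofR_toR {m : ℤ} {I : Set ι} (x : (lau k ι m).M I) (hx : (toR x).coeff ∈ Lsub k m I) :
    ofR (toR x) hx = x := rfl

theorem toR_res {m : ℤ} {I J : Set ι} (h : I ⊆ J) (x : (lau k ι m).M I) :
    toR ((lau k ι m).res h x) = toR x := rfl

/-- Multiplication by a form. -/
noncomputable def mulHom (F : MvPolynomial ι k) (b : ℕ) (hF : F.IsHomogeneous b) (m m' : ℤ)
    (hm : m' = m + b) : Hom (lau k ι m) (lau k ι m') where
  app I :=
    { toFun := fun x => ofR (toLaurent F * toR x) (LaurReg.mul_mem_Lsub hF (toR_mem x) hm)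
      map_add' := fun x y => toR_injective (by
        rw [toR_ofR, map_add toR (ofR _ _), toR_ofR, toR_ofR, map_add, mul_add])
      map_smul' := fun c x => toR_injective (by
        rw [RingHom.id_apply, toR_ofR, map_smul toR c (ofR _ _), toR_ofR, map_smul, mul_smul_comm]) }
  nat h x := toR_injective (by
    rw [toR_res]
    change toLaurent F * toR _ = toLaurent F * toR x
    rw [toR_res])

theorem toR_mulHom (F : MvPolynomial ι k) (b : ℕ) (hF : F.IsHomogeneous b) (m m' : ℤ)
    (hm : m' = m + b) {I : Set ι} (x : (lau k ι m).M I) :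
    toR ((mulHom F b hF m m' hm).app I x) = toLaurent F * toR x := rfl

end Mul

section Oc

variable {k : Type u} [Field k] {ι : Type} [Fintype ι] {d : ℕ}
  (G : Fin d → MvPolynomial ι k) (a : Fin d → ℕ)

/-- The submodule `∑_{j<c} G_j Lsub (m - a_j) I`. -/
def J (c : ℕ) (m : ℤ) (I : Set ι) : Submodule k ((lau k ι m).M I) where
  carrier := {x | ∃ h : Fin d → LR ι k, (∀ j, (h j).coeff ∈ Lsub k (m - a j) I) ∧
    toR x = ∑ j ∈ Finset.univ.filter (fun j : Fin d => j.val < c), toLaurent (G j) * h j}
  zero_mem' := ⟨0, fun _ => Submodule.zero_mem _, by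
    rw [map_zero]; symm; exact Finset.sum_eq_zero fun j _ => mul_zero _⟩
  add_mem' := by
    rintro x y ⟨h, hh, hx⟩ ⟨h', hh', hy⟩
    refine ⟨h + h', fun j => Submodule.add_mem _ (hh j) (hh' j), ?_⟩
    rw [map_add, hx, hy, ← Finset.sum_add_distrib]
    exact Finset.sum_congr rfl fun j _ => (mul_add _ _ _).symm
  smul_mem' := by
    rintro r x ⟨h, hh, hx⟩
    refine ⟨r • h, fun j => Submodule.smul_mem _ r (hh j), ?_⟩
    rw [map_smul, hx, Finset.smul_sum]
    exact Finset.sum_congr rfl fun j _ => (mul_smul_comm _ _ _).symm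

theorem mem_J {c : ℕ} {m : ℤ} {I : Set ι} {x : (lau k ι m).M I} : x ∈ J G a c m I ↔
    ∃ h : Fin d → LR ι k, (∀ j, (h j).coeff ∈ Lsub k (m - a j) I) ∧
    toR x = ∑ j ∈ Finset.univ.filter (fun j : Fin d => j.val < c), toLaurent (G j) * h j := Iff.rfl

/-- The subsystem. -/
noncomputable def SJ (c : ℕ) (m : ℤ) : SubSys (lau k ι m) where
  P I := J G a c m I
  stable h x := by
    rintro ⟨f, hf, hx⟩
    exact ⟨f, fun j => Lsub_mono h (hf j), by rw [toR_res, hx]⟩

/-- The system of `O(m)` on `V(G_0, …, G_{c-1})`. -/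
noncomputable def Oc (c : ℕ) (m : ℤ) : Sys k ι := (SJ G a c m).quot

theorem mulHom_mem_J (F : MvPolynomial ι k) (b : ℕ) (hF : F.IsHomogeneous b) (c : ℕ) (m m' : ℤ)
    (hm : m' = m + b) (I : Set ι) (x : (lau k ι m).M I) (hx : x ∈ (SJ G a c m).P I) :
    (mulHom F b hF m m' hm).app I x ∈ (SJ G a c m').P I := by
  obtain ⟨h, hh, hx⟩ := hx
  refine ⟨fun j => toLaurent F * h j, fun j => ?_, ?_⟩
  · exact LaurReg.mul_mem_Lsub hF (hh j) (by rw [hm]; ring)
  · rw [toR_mulHom, hx, Finset.mul_sum]
    exact Finset.sum_congr rfl fun j _ => mul_left_comm _ _ _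

/-- Multiplication by a form. -/
noncomputable def mulOc (F : MvPolynomial ι k) (b : ℕ) (hF : F.IsHomogeneous b) (c : ℕ) (m m' : ℤ)
    (hm : m' = m + b) : Hom (Oc G a c m) (Oc G a c m') :=
  (SJ G a c m).map (SJ G a c m') (mulHom F b hF m m' hm)
    (fun I x hx => mulHom_mem_J G a F b hF c m m' hm I x hx)

theorem J_mono {c c' : ℕ} (h : c ≤ c') (m : ℤ) (I : Set ι) : J G a c m I ≤ J G a c' m I := by
  classical
  rintro x ⟨f, hf, hx⟩
  refine ⟨fun j => if j.val < c then f j else 0, fun j => ?_, ?_⟩
  · dsimp only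
    split_ifs
    · exact hf j
    · exact Submodule.zero_mem _
  · rw [hx]
    symm
    rw [← Finset.sum_subset (s₁ := Finset.univ.filter (fun j : Fin d => j.val < c))]
    · refine Finset.sum_congr rfl fun j hj => ?_
      dsimp only
      rw [if_pos (Finset.mem_filter.mp hj).2]
    · intro j hj
      rw [Finset.mem_filter] at hj ⊢
      exact ⟨hj.1, lt_of_lt_of_le hj.2 h⟩
    · intro j _ hj
      dsimp only
      rw [if_neg (fun h => hj (Finset.mem_filter.mpr ⟨Finset.mem_univ _, h⟩)), mul_zero]

/-- The projection. -/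
noncomputable def projOc (c : ℕ) (m : ℤ) : Hom (Oc G a c m) (Oc G a (c + 1) m) :=
  (SJ G a c m).map (SJ G a (c + 1) m) (idHom _) (fun I _ hx => J_mono G a (Nat.le_succ c) m I hx)

omit [Fintype ι] in
theorem filter_succ (c : Fin d) (f : Fin d → LR ι k) :
    ∑ j ∈ Finset.univ.filter (fun j : Fin d => j.val < c.val + 1), f j =
      (∑ j ∈ Finset.univ.filter (fun j : Fin d => j.val < c.val), f j) + f c := by
  classical
  have : Finset.univ.filter (fun j : Fin d => j.val < c.val + 1) =
      insert c (Finset.univ.filter (fun j : Fin d => j.val < c.val)) := by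
    ext j
    simp only [Finset.mem_filter, Finset.mem_univ, true_and, Finset.mem_insert, Fin.ext_iff]
    omega
  rw [this, Finset.sum_insert, add_comm]
  simp

/-- The basic short exact sequence. -/
theorem isSES (ha : ∀ j, 1 ≤ a j) (hG : ∀ j, (G j).IsHomogeneous (a j)) (hht : (d : ℕ∞) ≤ (Ideal.span (Set.range G)).height)
    (c : Fin d) (m' m : ℤ) (hm : m = m' + a c) :
    IsSES (mulOc G a (G c) (a c) (hG c) c.val m' m hm) (projOc G a c.val m) where
  inj I _ := by
    rw [← LinearMap.ker_eq_bot, LinearMap.ker_eq_bot']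
    intro x hx
    obtain ⟨x, rfl⟩ := (SJ G a c.val m').cls_surjective x
    have h1 : (SJ G a c.val m).cls ((mulHom (G c) (a c) (hG c) m' m hm).app I x) = 0 := hx
    rw [SubSys.cls_eq_zero] at h1
    obtain ⟨h, hh, h2⟩ := h1
    rw [toR_mulHom] at h2
    obtain ⟨h', hh', h3⟩ := LaurReg.exists_coeff_of_mul G a ha hG hht c (toR x) (toR_mem x) h
      (fun j => by rw [← hm]; exact hh j) (by
        rw [h2]
        exact Finset.sum_congr rfl fun _ _ => rfl)
    exact ((SJ G a c.val m').cls_eq_zero x).mpr ⟨h', hh', h3⟩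
  exact I _ := by
    intro x
    obtain ⟨x, rfl⟩ := (SJ G a c.val m).cls_surjective x
    constructor
    · intro hx
      have h1 : (SJ G a (c.val + 1) m).cls x = 0 := hx
      rw [SubSys.cls_eq_zero] at h1
      obtain ⟨h, hh, h2⟩ := h1
      rw [filter_succ] at h2
      refine ⟨(SJ G a c.val m').cls (ofR (h c) (by
        have := hh c
        rw [hm, add_sub_cancel_right] at this
        exact this)), ?_⟩
      have h3 : (SJ G a c.val m).cls ((mulHom (G c) (a c) (hG c) m' m hm).app I (ofR (h c) (by
        have := hh c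
        rw [hm, add_sub_cancel_right] at this
        exact this))) = (SJ G a c.val m).cls x := by
        rw [SubSys.cls_eq_cls]
        refine ⟨fun j => - h j, fun j => Submodule.neg_mem _ (hh j), ?_⟩
        rw [map_sub, toR_mulHom, toR_ofR, h2]
        simp only [mul_neg, Finset.sum_neg_distrib]
        abel
      exact h3
    · rintro ⟨y, hy⟩
      obtain ⟨y, rfl⟩ := (SJ G a c.val m').cls_surjective y
      have h1 : (SJ G a c.val m).cls ((mulHom (G c) (a c) (hG c) m' m hm).app I y) =
        (SJ G a c.val m).cls x := hy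
      rw [SubSys.cls_eq_cls] at h1
      obtain ⟨h, hh, h2⟩ := h1
      have h3 : (SJ G a (c.val + 1) m).cls x = 0 := by
        rw [SubSys.cls_eq_zero]
        classical
        refine ⟨fun j => if j = c then toR y else - h j, fun j => ?_, ?_⟩
        · dsimp only
          split_ifs with hj
          · subst hj
            rw [hm, add_sub_cancel_right]
            exact toR_mem y
          · exact Submodule.neg_mem _ (hh j)
        · rw [filter_succ]
          dsimp only
          rw [if_pos rfl]
          have h4 : ∑ j ∈ Finset.univ.filter (fun j : Fin d => j.val < c.val),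
              toLaurent (G j) * (if j = c then toR y else - h j) =
              - ∑ j ∈ Finset.univ.filter (fun j : Fin d => j.val < c.val), toLaurent (G j) * h j := by
            rw [← Finset.sum_neg_distrib]
            refine Finset.sum_congr rfl fun j hj => ?_
            rw [if_neg, mul_neg]
            rintro rfl
            exact lt_irrefl _ (Finset.mem_filter.mp hj).2
          rw [h4, ← h2, map_sub, toR_mulHom]
          abel
      exact h3
  surj I _ x := by
    obtain ⟨x, rfl⟩ := (SJ G a (c.val + 1) m).cls_surjective x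
    exact ⟨(SJ G a c.val m).cls x, rfl⟩

end Oc

end Groth.Agent.Lefpen.H728.OcSys
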