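import Groth.Agent.Ega4C.HullCM
import Groth.Agent.Sga2.CMCodim
import Mathlib.RingTheory.RegularLocalRing.Polynomial
import Mathlib.RingTheory.MvPolynomial.Homogeneous

/-!
# Homogeneous polynomials generating an ideal of maximal height form a regular sequence

`mem_of_mul_mem`: if `G_1, …, G_d` are homogeneous of positive degree in a polynomial ring over a
field in finitely many variables and the ideal generated by them has height at least `d`, then
`G_c f ∈ (G_j, j < c)` implies `f ∈ (G_j, j < c)`.
-/

set_option autoImplicit false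

universe u v

namespace Groth.Agent.Lefpen.H728.RegSeq

open MvPolynomial IsLocalRing RingTheory.Sequence

attribute [local instance] MvPolynomial.gradedAlgebra

variable {k : Type u} [Field k] {σ : Type v} [Finite σ]

/-- The irrelevant maximal ideal. -/
noncomputable abbrev irr (k : Type u) (σ : Type v) [Field k] : Ideal (MvPolynomial σ k) :=
  RingHom.ker (constantCoeff : MvPolynomial σ k →+* k)

instance isMaximal_irr : (irr k σ).IsMaximal :=
  RingHom.ker_isMaximal_of_surjective _ fun a => ⟨C a, constantCoeff_C σ a⟩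

instance isPrime_irr : (irr k σ).IsPrime := (isMaximal_irr (k := k) (σ := σ)).isPrime

omit [Finite σ] in
theorem mem_irr_of_isHomogeneous {F : MvPolynomial σ k} {a : ℕ} (hF : F.IsHomogeneous a)
    (ha : 1 ≤ a) : F ∈ irr k σ := by
  rw [RingHom.mem_ker, constantCoeff_eq]
  by_contra h
  have := hF h
  simp at this
  omega

theorem isWeaklyRegular_local {d : ℕ} (G : Fin d → MvPolynomial σ k)
    (hG : ∀ j, G j ∈ irr k σ) (hht : (d : ℕ∞) ≤ (Ideal.span (Set.range G)).height) :
    IsWeaklyRegular (Localization.AtPrime (irr k σ))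
      ((List.ofFn G).map (algebraMap _ (Localization.AtPrime (irr k σ)))) := by
  have hreg : IsRegularRing k := inferInstance
  have hreg' : IsRegularRing (MvPolynomial σ k) := inferInstance
  have hCM := Groth.Agent.Sga2.CMCodim.isCohenMacaulayRing_of_isRegularRing (MvPolynomial σ k)
  have hCML := hCM.isCohenMacaulayLocalRing_localization (irr k σ)
  set P := Localization.AtPrime (irr k σ) with hP
  have hN : IsNoetherianRing P := hCML.toIsNoetherian
  set l := List.ofFn G with hl
  have hlspan : Ideal.ofList l = Ideal.span (Set.range G) := by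
    rw [Ideal.ofList]
    congr 1
    ext x
    simp [hl, List.mem_ofFn]
  set lq := l.map (algebraMap _ P) with hlq
  have hlen : lq.length = d := by simp [hlq, hl]
  have mem : ∀ r ∈ lq, r ∈ maximalIdeal P := by
    intro r hr
    obtain ⟨s, hs, rfl⟩ := List.mem_map.mp hr
    rw [IsLocalization.AtPrime.to_map_mem_maximal_iff P (irr k σ)]
    obtain ⟨j, rfl⟩ := (List.mem_ofFn).mp hs
    exact hG j
  have hmap : (Ideal.ofList l).map (algebraMap _ P) = Ideal.ofList lq := Ideal.map_ofList _ _
  have e : (P ⧸ Ideal.ofList lq • (⊤ : Submodule P P)) ≃ₗ[P] P ⧸ Ideal.ofList lq :=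
    Submodule.quotEquivOfEq _ _ (by rw [smul_eq_mul, Ideal.mul_top])
  refine Groth.Agent.CalgB.CM3.isWeaklyRegular_of_supportDim_add_length_le
    hCML.supportDim_eq_depth lq mem ?_
  rw [Module.supportDim_eq_of_equiv e, Module.supportDim_quotient_eq_ringKrullDim,
    Module.supportDim_self_eq_ringKrullDim]
  refine Groth.Agent.Ega4C.HullCM.ringKrullDim_quotient_add_le _ _ ?_
  rw [hlen, ← hmap, hlspan]
  exact hht.trans (Groth.Agent.Ega4C.HullCM.height_le_height_map (irr k σ).primeCompl _)

/-- From a weakly regular sequence: the elementwise statement. -/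
theorem mem_of_mul_mem_of_isWeaklyRegular {R : Type*} [CommRing R] {d : ℕ} (g : Fin d → R)
    (h : IsWeaklyRegular R (List.ofFn g)) (c : Fin d) (f : R)
    (hf : g c * f ∈ Ideal.span (g '' {j | j < c})) : f ∈ Ideal.span (g '' {j | j < c}) := by
  rw [isWeaklyRegular_iff_Fin] at h
  have hc : c.1 < (List.ofFn g).length := by simp
  have h1 := h ⟨c.1, hc⟩
  have htake : Ideal.ofList ((List.ofFn g).take c.1) = Ideal.span (g '' {j | j < c}) := by
    rw [Ideal.ofList]
    congr 1
    ext x
    simp only [Set.mem_image, Set.mem_ofPred_eq]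
    rw [List.mem_take_iff_getElem]
    constructor
    · rintro ⟨i, hi, rfl⟩
      have hi' : i < d := by
        have := lt_of_lt_of_le hi (min_le_right _ _)
        simpa using this
      refine ⟨⟨i, hi'⟩, ?_, by simp⟩
      have h5 : i < c.1 := lt_of_lt_of_le hi (min_le_left _ _)
      exact Fin.lt_def.mpr h5
    · rintro ⟨j, hj, rfl⟩
      have hj' : j.1 < c.1 := hj
      exact ⟨j.1, by simpa using hj', by simp⟩
  have h2 : IsSMulRegular (R ⧸ (Ideal.ofList ((List.ofFn g).take c.1) • (⊤ : Submodule R R)))
      (g c) := by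
    have h4 : (List.ofFn g)[(⟨c.1, hc⟩ : Fin (List.ofFn g).length)] = g c := by simp
    rw [← h4]
    exact h1
  have h3 := h2 (a₁ := Submodule.Quotient.mk f) (a₂ := 0) (by
    change g c • Submodule.Quotient.mk f = g c • (0 : R ⧸ _)
    rw [smul_zero]
    change Submodule.Quotient.mk (g c • f) = 0
    rw [Submodule.Quotient.mk_eq_zero, smul_eq_mul, smul_eq_mul, Ideal.mul_top, htake]
    exact hf)
  rw [Submodule.Quotient.mk_eq_zero, smul_eq_mul, Ideal.mul_top, htake] at h3
  exact h3

theorem isWeaklyRegular_of_mem_of_mul_mem {R : Type*} [CommRing R] {d : ℕ} (g : Fin d → R)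
    (h : ∀ (c : Fin d) (f : R), g c * f ∈ Ideal.span (g '' {j | j < c}) →
      f ∈ Ideal.span (g '' {j | j < c})) : IsWeaklyRegular R (List.ofFn g) := by
  rw [isWeaklyRegular_iff_Fin]
  intro i
  have hi : i.1 < d := by simpa using i.2
  have htake : Ideal.ofList ((List.ofFn g).take i.1) =
      Ideal.span (g '' {j | j < (⟨i.1, hi⟩ : Fin d)}) := by
    rw [Ideal.ofList]
    congr 1
    ext x
    simp only [Set.mem_image, Set.mem_ofPred_eq]
    rw [List.mem_take_iff_getElem]
    constructor
    · rintro ⟨i', hi', rfl⟩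
      have hi'' : i' < d := by
        have := lt_of_lt_of_le hi' (min_le_right _ _)
        simpa using this
      refine ⟨⟨i', hi''⟩, ?_, by simp⟩
      have h5 : i' < i.1 := lt_of_lt_of_le hi' (min_le_left _ _)
      exact Fin.lt_def.mpr h5
    · rintro ⟨j, hj, rfl⟩
      have hj' : j.1 < i.1 := hj
      exact ⟨j.1, by simpa using hj', by simp⟩
  rw [isSMulRegular_iff_right_eq_zero_of_smul]
  intro x hx
  obtain ⟨f, rfl⟩ := Submodule.Quotient.mk_surjective _ x
  rw [← Submodule.Quotient.mk_smul, Submodule.Quotient.mk_eq_zero, smul_eq_mul, smul_eq_mul,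
    Ideal.mul_top, htake] at hx
  rw [Submodule.Quotient.mk_eq_zero, smul_eq_mul, Ideal.mul_top, htake]
  refine h ⟨i.1, hi⟩ f ?_
  simpa using hx

omit [Finite σ] in
theorem isHomogeneous_span_image {d : ℕ} (G : Fin d → MvPolynomial σ k) (a : Fin d → ℕ)
    (hG : ∀ j, (G j).IsHomogeneous (a j)) (s : Set (Fin d)) :
    (Ideal.span (G '' s)).IsHomogeneous (homogeneousSubmodule σ k) := by
  apply Ideal.homogeneous_span
  rintro _ ⟨j, -, rfl⟩
  exact ⟨a j, (mem_homogeneousSubmodule _ _).mpr (hG j)⟩

omit [Finite σ] in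
/-- `homogeneousComponent (a + e) (F * f) = F * homogeneousComponent e f` for `F` homogeneous of
degree `a`. -/
theorem homogeneousComponent_mul_of_isHomogeneous {F f : MvPolynomial σ k} {a : ℕ}
    (hF : F.IsHomogeneous a) (e : ℕ) :
    homogeneousComponent (a + e) (F * f) = F * homogeneousComponent e f := by
  classical
  conv_lhs => rw [← sum_homogeneousComponent f, Finset.mul_sum, map_sum]
  have h1 : ∀ i, homogeneousComponent (a + e) (F * homogeneousComponent i f) =
      if i = e then F * homogeneousComponent e f else 0 := by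
    intro i
    rw [homogeneousComponent_of_mem ((mem_homogeneousSubmodule _ _).mpr
      (hF.mul (homogeneousComponent_isHomogeneous i f)))]
    by_cases h : i = e
    · subst h; simp
    · rw [if_neg (by omega), if_neg h]
  simp_rw [h1]
  rw [Finset.sum_ite_eq' ]
  split_ifs with h
  · rfl
  · rw [Finset.mem_range, not_lt] at h
    rw [homogeneousComponent_eq_zero _ _ (by omega), mul_zero]

/-- The homogeneous case. -/
theorem mem_of_mul_mem_of_isHomogeneous {d : ℕ} (G : Fin d → MvPolynomial σ k) (a : Fin d → ℕ)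
    (ha : ∀ j, 1 ≤ a j) (hG : ∀ j, (G j).IsHomogeneous (a j))
    (hht : (d : ℕ∞) ≤ (Ideal.span (Set.range G)).height) (c : Fin d) (f : MvPolynomial σ k)
    {e : ℕ} (hfe : f.IsHomogeneous e)
    (hf : G c * f ∈ Ideal.span (G '' {j | j < c})) : f ∈ Ideal.span (G '' {j | j < c}) := by
  have hreg := isWeaklyRegular_local G (fun j => mem_irr_of_isHomogeneous (hG j) (ha j)) hht
  set P := Localization.AtPrime (irr k σ) with hP
  have hmapofFn : (List.ofFn G).map (algebraMap (MvPolynomial σ k) P) =
      List.ofFn (fun j => algebraMap (MvPolynomial σ k) P (G j)) := by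
    rw [List.map_ofFn]; rfl
  rw [hmapofFn] at hreg
  have himage : Ideal.span ((fun j => algebraMap (MvPolynomial σ k) P (G j)) '' {j | j < c}) =
      (Ideal.span (G '' {j | j < c})).map (algebraMap (MvPolynomial σ k) P) := by
    rw [Ideal.map_span, Set.image_image]
  have h1 : algebraMap (MvPolynomial σ k) P f ∈
      (Ideal.span (G '' {j | j < c})).map (algebraMap (MvPolynomial σ k) P) := by
    rw [← himage]
    refine mem_of_mul_mem_of_isWeaklyRegular _ hreg c _ ?_
    rw [himage, ← map_mul]
    exact Ideal.mem_map_of_mem _ hf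
  rw [IsLocalization.algebraMap_mem_map_algebraMap_iff (irr k σ).primeCompl] at h1
  obtain ⟨u, hu, huf⟩ := h1
  have hu0 : constantCoeff u ≠ 0 := fun h => hu ((RingHom.mem_ker).mpr h)
  have h2 := homogeneousComponent_mem_of_mem (isHomogeneous_span_image G a hG _) huf (n := e)
  rw [mul_comm u f] at h2
  have h3 := homogeneousComponent_mul_of_isHomogeneous (f := u) hfe 0
  rw [add_zero] at h3
  rw [h3, homogeneousComponent_zero] at h2
  have h4 := Ideal.mul_mem_right (C (constantCoeff u)⁻¹) _ h2
  rw [mul_assoc, ← C_mul, ← constantCoeff_eq, mul_inv_cancel₀ hu0, C_1, mul_one] at h4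
  exact h4

/-- The elementwise form of weak regularity for homogeneous polynomials. -/
theorem mem_of_mul_mem {d : ℕ} (G : Fin d → MvPolynomial σ k) (a : Fin d → ℕ)
    (ha : ∀ j, 1 ≤ a j) (hG : ∀ j, (G j).IsHomogeneous (a j))
    (hht : (d : ℕ∞) ≤ (Ideal.span (Set.range G)).height) (c : Fin d) (f : MvPolynomial σ k)
    (hf : G c * f ∈ Ideal.span (G '' {j | j < c})) : f ∈ Ideal.span (G '' {j | j < c}) := by
  have hJ := isHomogeneous_span_image G a hG {j | j < c}
  rw [mem_iff_homogeneousComponent_mem hJ]
  intro e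
  refine mem_of_mul_mem_of_isHomogeneous G a ha hG hht c _
    (homogeneousComponent_isHomogeneous e f) ?_
  rw [← homogeneousComponent_mul_of_isHomogeneous (hG c)]
  exact homogeneousComponent_mem_of_mem hJ hf _

/-- Homogeneous polynomials of positive degree generating an ideal of height at least their number
form a weakly regular sequence. -/
theorem isWeaklyRegular_of_height {d : ℕ} (G : Fin d → MvPolynomial σ k) (a : Fin d → ℕ)
    (ha : ∀ j, 1 ≤ a j) (hG : ∀ j, (G j).IsHomogeneous (a j))
    (hht : (d : ℕ∞) ≤ (Ideal.span (Set.range G)).height) :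
    IsWeaklyRegular (MvPolynomial σ k) (List.ofFn G) :=
  isWeaklyRegular_of_mem_of_mul_mem G fun c f hf => mem_of_mul_mem G a ha hG hht c f hf

end Groth.Agent.Lefpen.H728.RegSeq
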